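import Mathlib
import Cfsg.Prelude.Def_Local
import Cfsg.Agent.Lib.Helper1.Cores

/-!
API for `Cfsg.upperPSeries` and `Cfsg.PLengthLE`: universal property of the upper `p`-series,
behaviour under surjections, subgroups and extensions.
-/

set_option autoImplicit false

namespace Cfsg.Agent.Lib.Helper63

open Cfsg

variable {G : Type*} [Group G]

/-- the `n`-th term of the upper `p`-series as a subgroup -/
abbrev ups (p : ℕ) (G : Type*) [Group G] (n : ℕ) : Subgroup G := (upperPSeries p G n).1

theorem ups_zero (p : ℕ) : ups p G 0 = ⊥ := by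
  simp [ups, upperPSeries]

theorem ups_succ_even (p : ℕ) {n : ℕ} (hn : Even n) :
    ups p G (n + 1) = (pPrimeCore p (G ⧸ ups p G n)).comap (QuotientGroup.mk' (ups p G n)) := by
  simp only [ups]
  rw [upperPSeries]
  simp only [hn, if_true]

theorem ups_succ_odd (p : ℕ) {n : ℕ} (hn : ¬ Even n) :
    ups p G (n + 1) = (pCore p (G ⧸ ups p G n)).comap (QuotientGroup.mk' (ups p G n)) := by
  simp only [ups]
  rw [upperPSeries]
  simp only [hn, if_false]

theorem ups_le_succ (p n : ℕ) : ups p G n ≤ ups p G (n + 1) := by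
  have h : ∀ X : Subgroup (G ⧸ ups p G n), ups p G n ≤ X.comap (QuotientGroup.mk' (ups p G n)) := by
    intro X
    calc ups p G n = (QuotientGroup.mk' (ups p G n)).ker := (QuotientGroup.ker_mk' _).symm
      _ ≤ _ := MonoidHom.ker_le_comap _ _
  by_cases hn : Even n
  · rw [ups_succ_even p hn]; exact h _
  · rw [ups_succ_odd p hn]; exact h _

theorem ups_mono (p : ℕ) : Monotone (ups p G) := monotone_nat_of_le_succ (ups_le_succ p)

theorem card_map_mk' (A B : Subgroup G) [A.Normal] :
    Nat.card (B.map (QuotientGroup.mk' A)) = A.relIndex B := by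
  rw [← Subgroup.relIndex_ker, QuotientGroup.ker_mk']

theorem le_ups_succ_of_coprime (p : ℕ) {n : ℕ} (hn : Even n) (B : Subgroup G) [hB : B.Normal]
    (h : ((ups p G n).relIndex B).Coprime p) : B ≤ ups p G (n + 1) := by
  rw [ups_succ_even p hn, ← Subgroup.map_le_iff_le_comap]
  apply Cfsg.Agent.Lib.Helper1.le_pPrimeCore (hB.map _ (QuotientGroup.mk'_surjective _))
  rw [card_map_mk']; exact h

theorem le_ups_succ_of_pow (p : ℕ) {n : ℕ} (hn : ¬ Even n) (B : Subgroup G) [hB : B.Normal]
    (h : ∃ m : ℕ, (ups p G n).relIndex B = p ^ m) : B ≤ ups p G (n + 1) := by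
  obtain ⟨m, hm⟩ := h
  rw [ups_succ_odd p hn, ← Subgroup.map_le_iff_le_comap]
  apply Cfsg.Agent.Lib.Helper1.le_pCore (hB.map _ (QuotientGroup.mk'_surjective _))
  apply IsPGroup.of_card (n := m)
  rw [card_map_mk']; exact hm

/-- the condition on a factor `B / A` at position `n` of a `p`-series -/
def StepOK (p n : ℕ) (A B : Subgroup G) : Prop :=
  (Even n → (A.relIndex B).Coprime p) ∧ (¬ Even n → ∃ m : ℕ, A.relIndex B = p ^ m)

theorem StepOK.of_dvd {p : ℕ} (hp : p.Prime) {n : ℕ} {A B : Subgroup G} {H : Type*} [Group H]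
    {A' B' : Subgroup H} (h : StepOK p n A B) (hd : A'.relIndex B' ∣ A.relIndex B) :
    StepOK p n A' B' := by
  refine ⟨fun hn => Nat.Coprime.coprime_dvd_left hd (h.1 hn), fun hn => ?_⟩
  obtain ⟨m, hm⟩ := h.2 hn
  rw [hm] at hd
  obtain ⟨j, _, hj⟩ := (Nat.dvd_prime_pow hp).mp hd
  exact ⟨j, hj⟩

theorem StepOK.congr_parity {p n n' : ℕ} {A B : Subgroup G} (h : StepOK p n A B)
    (hn : Even n ↔ Even n') : StepOK p n' A B :=
  ⟨fun h' => h.1 (hn.mpr h'), fun h' => h.2 (fun h'' => h' (hn.mp h''))⟩

theorem le_ups_succ {p : ℕ} (hp : p.Prime) {n : ℕ} (A B : Subgroup G) [B.Normal] (hA : A ≤ ups p G n)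
    (h : StepOK p n A B) : B ≤ ups p G (n + 1) := by
  have h' : StepOK p n (ups p G n) B := h.of_dvd hp (Subgroup.relIndex_dvd_of_le_left B hA)
  by_cases hn : Even n
  · exact le_ups_succ_of_coprime p hn B (h'.1 hn)
  · exact le_ups_succ_of_pow p hn B (h'.2 hn)

/-- Universal property of the upper `p`-series. -/
theorem chain_le_ups {p : ℕ} (hp : p.Prime) (k : ℕ) (W : ℕ → Subgroup G) (hW : ∀ n, (W n).Normal)
    (h0 : W 0 ≤ ups p G k) (hstep : ∀ n, StepOK p (n + k) (W n) (W (n + 1))) :
    ∀ n, W n ≤ ups p G (n + k) := by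
  intro n
  induction n with
  | zero => simpa using h0
  | succ n ih =>
    have := hW (n + 1)
    have h1 := le_ups_succ hp (W n) (W (n + 1)) ih (hstep n)
    have e : n + 1 + k = n + k + 1 := by ring
    rw [e]; exact h1

theorem relIndex_comap_mk' (A : Subgroup G) [A.Normal] (X : Subgroup (G ⧸ A)) :
    A.relIndex (X.comap (QuotientGroup.mk' A)) = Nat.card X := by
  rw [← card_map_mk', Subgroup.map_comap_eq_self_of_surjective (QuotientGroup.mk'_surjective A)]

/-- the upper `p`-series of a finite group is a `p`-series -/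
theorem ups_stepOK [Finite G] {p : ℕ} (hp : p.Prime) (n : ℕ) :
    StepOK p n (ups p G n) (ups p G (n + 1)) := by
  constructor
  · intro hn
    rw [ups_succ_even p hn, relIndex_comap_mk']
    exact Cfsg.Agent.Lib.Helper1.pPrimeCore_coprime hp
  · intro hn
    rw [ups_succ_odd p hn, relIndex_comap_mk']
    have : Fact p.Prime := ⟨hp⟩
    exact (IsPGroup.iff_card).mp (Cfsg.Agent.Lib.Helper1.pCore_isPGroup p)

theorem relIndex_map_map_dvd {H : Type*} [Group H] (f : G →* H) (A B : Subgroup G) [A.Normal]
    (hAB : A ≤ B) : (A.map f).relIndex (B.map f) ∣ A.relIndex B := by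
  rw [Subgroup.relIndex_map_map]
  have e : B ⊔ f.ker = B ⊔ (A ⊔ f.ker) := by
    rw [← sup_assoc, sup_eq_left.mpr hAB]
  rw [e, Subgroup.relIndex_sup_right]
  exact Subgroup.relIndex_dvd_of_le_left B le_sup_left

/-- image of the upper series under a surjection killing the `k`-th term (`k` even). -/
theorem map_ups_le [Finite G] {p : ℕ} (hp : p.Prime) {H : Type*} [Group H] (f : G →* H)
    (hf : Function.Surjective f) (k : ℕ) (hk : Even k) (hker : ups p G k ≤ f.ker) (n : ℕ) :
    (ups p G (n + k)).map f ≤ ups p H n := by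
  have := chain_le_ups (G := H) hp 0 (fun n => (ups p G (n + k)).map f)
    (fun n => Subgroup.Normal.map inferInstance f hf)
    (by
      simp only [zero_add]
      rw [ups_zero, (Subgroup.map_eq_bot_iff _).mpr hker])
    (by
      intro n
      have h1 : StepOK p (n + k) (ups p G (n + k)) (ups p G (n + k + 1)) := ups_stepOK hp (n + k)
      have e : n + 1 + k = n + k + 1 := by ring
      simp only [add_zero]
      rw [e]
      refine (h1.of_dvd hp (relIndex_map_map_dvd f _ _ (ups_le_succ p _))).congr_parity ?_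
      rw [Nat.even_add]; simp [hk]) n
  simpa using this

theorem PLengthLE.of_surjective [Finite G] {p : ℕ} (hp : p.Prime) {H : Type*} [Group H] (f : G →* H)
    (hf : Function.Surjective f) {k : ℕ} (h : PLengthLE p k G) : PLengthLE p k H := by
  have h1 := map_ups_le hp f hf 0 (by simp) (by rw [ups_zero]; exact bot_le) (2 * k + 1)
  have h2 : ups p G (2 * k + 1) = ⊤ := h
  rw [add_zero, h2, Subgroup.map_top_of_surjective f hf] at h1
  exact top_le_iff.mp h1

/-- dividing out `O_{p',p}(G)` lowers the `p`-length -/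
theorem PLengthLE.quotient_ups_two [Finite G] {p : ℕ} (hp : p.Prime) {k : ℕ}
    (h : PLengthLE p (k + 1) G) : PLengthLE p k (G ⧸ ups p G 2) := by
  have h1 := map_ups_le hp (QuotientGroup.mk' (ups p G 2)) (QuotientGroup.mk'_surjective _) 2
    (by simp) (by rw [QuotientGroup.ker_mk']) (2 * k + 1)
  have h2 : ups p G (2 * (k + 1) + 1) = ⊤ := h
  have e : 2 * k + 1 + 2 = 2 * (k + 1) + 1 := by ring
  rw [e, h2, Subgroup.map_top_of_surjective _ (QuotientGroup.mk'_surjective _)] at h1
  exact top_le_iff.mp h1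

theorem PLengthLE.mono {p k k' : ℕ} (h : PLengthLE p k G) (hk : k ≤ k') : PLengthLE p k' G := by
  have h2 : ups p G (2 * k + 1) = ⊤ := h
  have h3 : ups p G (2 * k + 1) ≤ ups p G (2 * k' + 1) := ups_mono p (by omega)
  rw [h2] at h3
  exact top_le_iff.mp h3

/-- characterisation by chains -/
theorem pLengthLE_of_chain {p : ℕ} (hp : p.Prime) (k : ℕ) (W : ℕ → Subgroup G) (hW : ∀ n, (W n).Normal)
    (h0 : W 0 = ⊥) (hstep : ∀ n, StepOK p n (W n) (W (n + 1))) (htop : W (2 * k + 1) = ⊤) :
    PLengthLE p k G := by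
  have := chain_le_ups hp 0 W hW (by rw [h0]; exact bot_le) (by simpa using hstep) (2 * k + 1)
  rw [htop, add_zero] at this
  exact top_le_iff.mp this

theorem relIndex_dvd_of_le_right_of_normal (A : Subgroup G) [A.Normal] {K B : Subgroup G} (h : K ≤ B) :
    A.relIndex K ∣ A.relIndex B := by
  rw [← card_map_mk', ← card_map_mk']
  exact Subgroup.card_dvd_of_le (Subgroup.map_mono h)

/-- `p`-length passes to subgroups -/
theorem PLengthLE.subgroup [Finite G] {p : ℕ} (hp : p.Prime) {k : ℕ} (h : PLengthLE p k G)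
    (N : Subgroup G) : PLengthLE p k N := by
  apply pLengthLE_of_chain hp k (fun n => (ups p G n).subgroupOf N) (fun n => inferInstance)
  · rw [ups_zero]; exact Subgroup.bot_subgroupOf N
  · intro n
    refine (ups_stepOK (G := G) hp n).of_dvd hp ?_
    have e : (ups p G (n + 1)).subgroupOf N = (ups p G (n + 1) ⊓ N).subgroupOf N := by
      rw [Subgroup.inf_subgroupOf_right]
    rw [e, Subgroup.relIndex_subgroupOf inf_le_right]
    exact relIndex_dvd_of_le_right_of_normal _ inf_le_left
  · have h2 : ups p G (2 * k + 1) = ⊤ := h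
    show (ups p G (2 * k + 1)).subgroupOf N = ⊤
    rw [h2]; exact Subgroup.top_subgroupOf N

/-- the terms of the upper series are characteristic -/
theorem ups_characteristic [Finite G] {p : ℕ} (hp : p.Prime) (n : ℕ) : (ups p G n).Characteristic := by
  rw [Subgroup.characteristic_iff_map_le]
  intro φ
  have := map_ups_le hp φ.toMonoidHom φ.surjective 0 (by simp) (by rw [ups_zero]; exact bot_le) n
  simpa using this

theorem pLengthLE_zero_of_coprime {p : ℕ} (h : (Nat.card G).Coprime p) : PLengthLE p 0 G := by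
  have h1 : (⊤ : Subgroup G) ≤ ups p G (0 + 1) := by
    apply le_ups_succ_of_coprime p (by simp) ⊤
    rw [ups_zero, Subgroup.relIndex_bot_left, Subgroup.card_top]; exact h
  exact top_le_iff.mp h1

theorem pLengthLE_one_of_isPGroup [Finite G] {p : ℕ} (hp : p.Prime) (h : IsPGroup p G) :
    PLengthLE p 1 G := by
  have : Fact p.Prime := ⟨hp⟩
  have h1 : (⊤ : Subgroup G) ≤ ups p G (1 + 1) := by
    apply le_ups_succ_of_pow p (by simp) ⊤
    exact (h.to_subgroup ⊤).index _
  have h2 : ups p G (1 + 1) ≤ ups p G (2 * 1 + 1) := ups_mono p (by omega)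
  exact top_le_iff.mp (h1.trans h2)

theorem relIndex_comap_comap {H : Type*} [Group H] (f : G →* H) (hf : Function.Surjective f)
    (A B : Subgroup H) : (A.comap f).relIndex (B.comap f) = A.relIndex B := by
  rw [Subgroup.relIndex_comap, Subgroup.map_comap_eq_self_of_surjective hf]

/-- `p`-length is subadditive in extensions -/
theorem PLengthLE.extension [Finite G] {p : ℕ} (hp : p.Prime) (N : Subgroup G) [hN : N.Normal] {a b : ℕ}
    (hNa : PLengthLE p a N) (hQ : PLengthLE p b (G ⧸ N)) : PLengthLE p (a + b) G := by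
  -- the series of `N`
  have hVn : ∀ n, ((ups p N n).map N.subtype).Normal := by
    intro n
    have := ups_characteristic (G := N) hp n
    exact ConjAct.normal_of_characteristic_of_normal
  have hVstep : ∀ n, StepOK p n ((ups p N n).map N.subtype) ((ups p N (n + 1)).map N.subtype) := by
    intro n
    refine (ups_stepOK (G := N) hp n).of_dvd hp ?_
    rw [Subgroup.relIndex_map_map_of_injective _ _ N.subtype_injective]
  have hV : ∀ n, (ups p N n).map N.subtype ≤ ups p G n := by
    intro n
    have := chain_le_ups hp 0 (fun n => (ups p N n).map N.subtype) hVn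
      (by simp only [ups_zero, Subgroup.map_bot]; exact bot_le) (by simpa using hVstep) n
    simpa using this
  have hNtop : (ups p N (2 * a + 1)).map N.subtype = N := by
    have h2 : ups p N (2 * a + 1) = ⊤ := hNa
    rw [h2, ← MonoidHom.range_eq_map, Subgroup.range_subtype]
  -- the preimages of the series of `G ⧸ N`
  set W : ℕ → Subgroup G := fun n => (ups p (G ⧸ N) n).comap (QuotientGroup.mk' N) with hWdef
  have hWn : ∀ n, (W n).Normal := fun n => inferInstance
  have hNW : ∀ n, N ≤ W n := by
    intro n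
    calc N = (QuotientGroup.mk' N).ker := (QuotientGroup.ker_mk' _).symm
      _ ≤ _ := MonoidHom.ker_le_comap _ _
  have hWstep : ∀ n, StepOK p n (W n) (W (n + 1)) := by
    intro n
    refine (ups_stepOK (G := G ⧸ N) hp n).of_dvd hp ?_
    rw [relIndex_comap_comap _ (QuotientGroup.mk'_surjective N)]
  have hW0 : W 0 = N := by
    simp only [hWdef, ups_zero]
    rw [MonoidHom.comap_bot, QuotientGroup.ker_mk']
  have hW1 : W 1 ≤ ups p G (2 * a + 1) := by
    have := hWn 1
    apply le_ups_succ hp ((ups p N (2 * a)).map N.subtype) (W 1) (hV _)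
    refine ⟨fun _ => ?_, fun h => absurd (by simp) h⟩
    have h1 : ((ups p N (2 * a)).map N.subtype).relIndex N * N.relIndex (W 1) =
        ((ups p N (2 * a)).map N.subtype).relIndex (W 1) :=
      Subgroup.relIndex_mul_relIndex _ _ _ (Subgroup.map_subtype_le _) (hNW 1)
    rw [← h1]
    apply Nat.Coprime.mul_left
    · have := (hVstep (2 * a)).1 (by simp)
      rwa [hNtop] at this
    · have := (hWstep 0).1 (by simp)
      rwa [hW0] at this
  have := chain_le_ups hp (2 * a + 1) (fun n => W (n + 1)) (fun n => hWn _) hW1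
    (by
      intro n
      refine (hWstep (n + 1)).congr_parity ?_
      simp only [Nat.even_add, Nat.even_add_one]
      simp) (2 * b)
  have htop : W (2 * b + 1) = ⊤ := by
    have h2 : ups p (G ⧸ N) (2 * b + 1) = ⊤ := hQ
    simp only [hWdef, h2, Subgroup.comap_top]
  simp only [htop] at this
  have e : 2 * b + (2 * a + 1) = 2 * (a + b) + 1 := by ring
  rw [e] at this
  exact top_le_iff.mp this

/-- version for a section `B / A` of an ambient group -/
theorem PLengthLE.extension' [Finite G] {p : ℕ} (hp : p.Prime) (A B : Subgroup G) (hAB : A ≤ B)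
    [hn : (A.subgroupOf B).Normal] {a b : ℕ} (hA : PLengthLE p a A)
    (hQ : PLengthLE p b (B ⧸ A.subgroupOf B)) : PLengthLE p (a + b) B := by
  apply PLengthLE.extension hp (A.subgroupOf B) _ hQ
  exact PLengthLE.of_surjective hp (Subgroup.subgroupOfEquivOfLe hAB).symm.toMonoidHom
    (Subgroup.subgroupOfEquivOfLe hAB).symm.surjective hA

/-! ### derived series of a subgroup inside the ambient group -/

/-- derived series of a subgroup -/
def ds (H : Subgroup G) : ℕ → Subgroup G
  | 0 => H
  | n + 1 => ⁅ds H n, ds H n⁆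

theorem ds_mono {H K : Subgroup G} (h : H ≤ K) (n : ℕ) : ds H n ≤ ds K n := by
  induction n with
  | zero => exact h
  | succ n ih => exact Subgroup.commutator_mono ih ih

theorem ds_top (n : ℕ) : ds (⊤ : Subgroup G) n = derivedSeries G n := by
  induction n with
  | zero => rfl
  | succ n ih => show ⁅ds ⊤ n, ds ⊤ n⁆ = _; rw [ih, derivedSeries_succ]

theorem ds_add (H : Subgroup G) (a b : ℕ) : ds H (a + b) = ds (ds H a) b := by
  induction b with
  | zero => rfl
  | succ b ih => show ⁅ds H (a + b), ds H (a + b)⁆ = ⁅ds (ds H a) b, ds (ds H a) b⁆; rw [ih]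

theorem ds_map {H' : Type*} [Group H'] (f : G →* H') (H : Subgroup G) (n : ℕ) :
    ds (H.map f) n = (ds H n).map f := by
  induction n with
  | zero => rfl
  | succ n ih =>
    show ⁅ds (H.map f) n, ds (H.map f) n⁆ = (⁅ds H n, ds H n⁆).map f
    rw [ih, Subgroup.map_commutator]

theorem ds_eq_map_derivedSeries (H : Subgroup G) (n : ℕ) :
    ds H n = (derivedSeries H n).map H.subtype := by
  rw [← ds_top, ← ds_map, ← MonoidHom.range_eq_map, Subgroup.range_subtype]

theorem ds_eq_bot_iff (H : Subgroup G) (n : ℕ) : ds H n = ⊥ ↔ derivedSeries H n = ⊥ := by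
  rw [ds_eq_map_derivedSeries, Subgroup.map_eq_bot_iff, Subgroup.ker_subtype, le_bot_iff]

end Cfsg.Agent.Lib.Helper63
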