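import Mathlib

set_option autoImplicit false

/-! Nonabelian `p`-groups with an abelian subgroup of index `p`. -/

namespace Cfsg.Agent.Lib.Helper63

open scoped commutatorElement

variable {S : Type*} [Group S]

theorem isMulComm_subgroup_iff (B : Subgroup S) :
    IsMulCommutative B ↔ ∀ a ∈ B, ∀ b ∈ B, a * b = b * a := by
  constructor
  · intro h a ha b hb
    exact congrArg Subtype.val (mul_comm' (⟨a, ha⟩ : B) ⟨b, hb⟩)
  · intro h
    exact ⟨⟨fun a b => Subtype.ext (h a.1 a.2 b.1 b.2)⟩⟩

theorem isMulCommutative_top_iff : IsMulCommutative S ↔ ∀ a b : S, a * b = b * a :=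
  ⟨fun _ a b => mul_comm' a b, fun h => ⟨⟨h⟩⟩⟩

/-- `H ⊔ ⟨x⟩` is commutative if `H` is and `x` centralizes `H`. -/
theorem comm_sup_zpowers {H : Subgroup S} (hH : ∀ a ∈ H, ∀ b ∈ H, a * b = b * a) {x : S}
    (hx : ∀ a ∈ H, a * x = x * a) : ∀ u ∈ H ⊔ Subgroup.zpowers x, ∀ v ∈ H ⊔ Subgroup.zpowers x,
      u * v = v * u := by
  have h1 : H ⊔ Subgroup.zpowers x ≤ Subgroup.centralizer (H : Set S) := by
    apply sup_le
    · intro a ha
      rw [Subgroup.mem_centralizer_iff]
      intro b hb
      exact hH b hb a ha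
    · rw [Subgroup.zpowers_le, Subgroup.mem_centralizer_iff]
      intro b hb
      exact hx b hb
  have h2 : H ⊔ Subgroup.zpowers x ≤ Subgroup.centralizer {x} := by
    apply sup_le
    · intro a ha
      rw [Subgroup.mem_centralizer_singleton_iff]
      exact hx a ha
    · rw [Subgroup.zpowers_le, Subgroup.mem_centralizer_singleton_iff]
  intro u hu v hv
  have h3 : H ⊔ Subgroup.zpowers x ≤ Subgroup.centralizer {u} := by
    apply sup_le
    · intro a ha
      rw [Subgroup.mem_centralizer_singleton_iff]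
      exact Subgroup.mem_centralizer_iff.mp (h1 hu) a ha
    · rw [Subgroup.zpowers_le, Subgroup.mem_centralizer_singleton_iff]
      exact (Subgroup.mem_centralizer_singleton_iff.mp (h2 hu)).symm
  exact (Subgroup.mem_centralizer_singleton_iff.mp (h3 hv)).symm

/-- a subgroup of prime index is maximal. -/
theorem eq_top_of_index_prime_of_lt [Finite S] {p : ℕ} (hp : p.Prime) {A K : Subgroup S}
    (hA : A.index = p) (hAK : A ≤ K) (hne : ¬ K ≤ A) : K = ⊤ := by
  have h1 : K.index ∣ p := hA ▸ Subgroup.index_dvd_of_le hAK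
  rcases (Nat.dvd_prime hp).mp h1 with h | h
  · exact Subgroup.index_eq_one.mp h
  · exfalso
    apply hne
    have h2 := A.card_mul_index
    have h3 := K.card_mul_index
    rw [hA] at h2
    rw [h] at h3
    have h4 : Nat.card K = Nat.card A := Nat.eq_of_mul_eq_mul_right hp.pos (h3.trans h2.symm)
    exact (Subgroup.eq_of_le_of_card_ge hAK h4.le).ge

theorem sup_zpowers_eq_top [Finite S] {p : ℕ} (hp : p.Prime) {A : Subgroup S}
    (hA : A.index = p) {x : S} (hx : x ∉ A) : A ⊔ Subgroup.zpowers x = ⊤ :=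
  eq_top_of_index_prime_of_lt hp hA le_sup_left
    (fun h => hx (h (Subgroup.mem_sup_right (Subgroup.mem_zpowers x))))

section phi
variable (A : Subgroup S) [hAn : A.Normal] (hAc : ∀ a ∈ A, ∀ b ∈ A, a * b = b * a) (x : S)

include hAc in
theorem comm_mul_aux (a b : S) (ha : a ∈ A) (hb : b ∈ A) : ⁅a * b, x⁆ = ⁅a, x⁆ * ⁅b, x⁆ := by
  have h1 : x * a⁻¹ * x⁻¹ ∈ A := hAn.conj_mem _ (inv_mem ha) x
  have h2 : ⁅b, x⁆ ∈ A := by
    rw [commutatorElement_def]
    have : b * x * b⁻¹ * x⁻¹ = b * (x * b⁻¹ * x⁻¹) := by group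
    rw [this]
    exact mul_mem hb (hAn.conj_mem _ (inv_mem hb) x)
  have h3 := hAc _ h2 _ h1
  calc ⁅a * b, x⁆ = a * (⁅b, x⁆ * (x * a⁻¹ * x⁻¹)) := by
        rw [commutatorElement_def, commutatorElement_def]; group
    _ = a * ((x * a⁻¹ * x⁻¹) * ⁅b, x⁆) := by rw [h3]
    _ = ⁅a, x⁆ * ⁅b, x⁆ := by rw [commutatorElement_def a x]; group

/-- `a ↦ [a, x]` on an abelian normal subgroup. -/
def commA : A →* S where
  toFun a := ⁅(a : S), x⁆
  map_one' := by simp
  map_mul' a b := comm_mul_aux A hAc x a b a.2 b.2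

theorem commA_apply (a : A) : commA A hAc x a = ⁅(a : S), x⁆ := rfl

theorem mem_commA_ker (a : A) : a ∈ (commA A hAc x).ker ↔ (a : S) * x = x * a := by
  rw [MonoidHom.mem_ker, commA_apply, commutatorElement_eq_one_iff_mul_comm]

theorem commA_range_le : (commA A hAc x).range ≤ A := by
  rintro _ ⟨b, rfl⟩
  rw [commA_apply, commutatorElement_def]
  have : (b : S) * x * (b : S)⁻¹ * x⁻¹ = b * (x * (b : S)⁻¹ * x⁻¹) := by group
  rw [this]
  exact mul_mem b.2 (hAn.conj_mem _ (inv_mem b.2) x)

theorem commA_range_normal (htop : A ⊔ Subgroup.zpowers x = ⊤) : (commA A hAc x).range.Normal := by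
  rw [← Subgroup.normalizer_eq_top_iff, eq_top_iff, ← htop]
  apply sup_le
  · rw [Subgroup.le_normalizer_iff]
    intro a ha r hr
    have hrA := commA_range_le A hAc x hr
    have : a * r * a⁻¹ = r := by rw [hAc a ha r hrA]; group
    rw [this]; exact hr
  · rw [Subgroup.zpowers_le, Subgroup.mem_normalizer_iff]
    intro r
    constructor
    · rintro ⟨b, rfl⟩
      refine ⟨⟨x * b * x⁻¹, hAn.conj_mem _ b.2 x⟩, ?_⟩
      rw [commA_apply, commA_apply, commutatorElement_def, commutatorElement_def]
      group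
    · rintro ⟨b, hb⟩
      refine ⟨⟨x⁻¹ * b * x, by simpa using hAn.conj_mem _ b.2 x⁻¹⟩, ?_⟩
      rw [commA_apply] at hb ⊢
      have : r = x⁻¹ * (x * r * x⁻¹) * x := by group
      rw [this, ← hb, commutatorElement_def, commutatorElement_def]
      group

theorem commutator_eq_commA_range (htop : A ⊔ Subgroup.zpowers x = ⊤) :
    commutator S = (commA A hAc x).range := by
  apply le_antisymm
  · have hn := commA_range_normal A hAc x htop
    rw [← Subgroup.Normal.quotient_commutative_iff_commutator_le]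
    set R := (commA A hAc x).range with hR
    set π := QuotientGroup.mk' R with hπ
    have htop' : A.map π ⊔ Subgroup.zpowers (π x) = ⊤ := by
      rw [← MonoidHom.map_zpowers, ← Subgroup.map_sup, htop, ← MonoidHom.range_eq_map,
        MonoidHom.range_eq_top]
      exact QuotientGroup.mk'_surjective R
    have hcomm := comm_sup_zpowers (H := A.map π) (x := π x) (by
      rintro _ ⟨a, ha, rfl⟩ _ ⟨b, hb, rfl⟩
      rw [← map_mul, ← map_mul, hAc a ha b hb]) (by
      rintro _ ⟨a, ha, rfl⟩
      rw [← map_mul, ← map_mul]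
      have h1 : a * x = ⁅a, x⁆ * (x * a) := by rw [commutatorElement_def]; group
      have h2 : π ⁅a, x⁆ = 1 := by
        rw [hπ, QuotientGroup.mk'_apply, QuotientGroup.eq_one_iff]
        exact ⟨⟨a, ha⟩, rfl⟩
      rw [h1, map_mul, h2, one_mul])
    rw [htop'] at hcomm
    exact ⟨⟨fun a b => hcomm a (Subgroup.mem_top a) b (Subgroup.mem_top b)⟩⟩
  · rintro _ ⟨b, rfl⟩
    exact Subgroup.commutator_mem_commutator (Subgroup.mem_top _) (Subgroup.mem_top _)

end phi

section main
variable [Finite S] {p : ℕ}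

theorem center_le_of_abelian_index (hp : p.Prime) (hna : ¬ ∀ a b : S, a * b = b * a)
    {A : Subgroup S} (hAc : ∀ a ∈ A, ∀ b ∈ A, a * b = b * a) (hAi : A.index = p) :
    Subgroup.center S ≤ A := by
  intro z hz
  by_contra hzA
  apply hna
  have htop := sup_zpowers_eq_top hp hAi hzA
  have := comm_sup_zpowers hAc (x := z) (fun a _ => Subgroup.mem_center_iff.mp hz a)
  rw [htop] at this
  exact fun a b => this a (Subgroup.mem_top a) b (Subgroup.mem_top b)

theorem mem_center_of_comm (hp : p.Prime) {A : Subgroup S}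
    (hAc : ∀ a ∈ A, ∀ b ∈ A, a * b = b * a) (hAi : A.index = p) {x : S} (hx : x ∉ A) {a : S}
    (ha : a ∈ A) (hax : a * x = x * a) : a ∈ Subgroup.center S := by
  have htop := sup_zpowers_eq_top hp hAi hx
  have h1 : A ⊔ Subgroup.zpowers x ≤ Subgroup.centralizer {a} := by
    apply sup_le
    · intro b hb
      rw [Subgroup.mem_centralizer_singleton_iff]
      exact hAc b hb a ha
    · rw [Subgroup.zpowers_le, Subgroup.mem_centralizer_singleton_iff]
      exact hax.symm
  rw [htop] at h1
  rw [Subgroup.mem_center_iff]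
  intro g
  exact Subgroup.mem_centralizer_singleton_iff.mp (h1 (Subgroup.mem_top g))

theorem index_center_eq (hp : p.Prime) (hna : ¬ ∀ a b : S, a * b = b * a)
    {A : Subgroup S} [hAn : A.Normal] (hAc : ∀ a ∈ A, ∀ b ∈ A, a * b = b * a) (hAi : A.index = p) :
    (Subgroup.center S).index = p * Nat.card (commutator S) := by
  obtain ⟨x, hx⟩ : ∃ x, x ∉ A := by
    by_contra hcon
    push Not at hcon
    have : A = ⊤ := eq_top_iff.mpr (fun z _ => hcon z)
    rw [this, Subgroup.index_top] at hAi
    exact hp.one_lt.ne hAi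
  have htop := sup_zpowers_eq_top hp hAi hx
  have hZA := center_le_of_abelian_index hp hna hAc hAi
  have h1 : Nat.card (commA A hAc x).ker = Nat.card (Subgroup.center S) := by
    rw [← Subgroup.card_map_of_injective A.subtype_injective]
    congr 2
    ext z
    constructor
    · rintro ⟨a, ha, rfl⟩
      exact mem_center_of_comm hp hAc hAi hx a.2 ((mem_commA_ker A hAc x a).mp ha)
    · intro hz
      refine ⟨⟨z, hZA hz⟩, ?_, rfl⟩
      show (⟨z, hZA hz⟩ : A) ∈ (commA A hAc x).ker
      rw [mem_commA_ker]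
      exact (Subgroup.mem_center_iff.mp hz x).symm
  have h2 := (commA A hAc x).ker.card_mul_index
  rw [Subgroup.index_ker, ← commutator_eq_commA_range A hAc x htop, h1] at h2
  have h3 := A.card_mul_index
  have h4 := (Subgroup.center S).card_mul_index
  rw [hAi, ← h2] at h3
  have hpos : 0 < Nat.card (Subgroup.center S) := Nat.card_pos
  apply Nat.eq_of_mul_eq_mul_left hpos
  rw [h4, ← h3]
  ring

/-- two distinct abelian subgroups of index `p` force `|S : Z(S)| ≤ p²`. -/
theorem index_center_le_of_two (hp : p.Prime) {A B : Subgroup S}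
    (hAc : ∀ a ∈ A, ∀ b ∈ A, a * b = b * a) (hAi : A.index = p)
    (hBc : ∀ a ∈ B, ∀ b ∈ B, a * b = b * a) (hBi : B.index = p) (hne : B ≠ A) :
    A ⊓ B ≤ Subgroup.center S ∧ (Subgroup.center S).index ≤ p ^ 2 := by
  have hBA : ¬ B ≤ A := by
    intro h
    apply hne
    have h2 := A.card_mul_index
    have h3 := B.card_mul_index
    rw [hAi] at h2
    rw [hBi] at h3
    have h4 : Nat.card A = Nat.card B := Nat.eq_of_mul_eq_mul_right hp.pos (h2.trans h3.symm)
    exact Subgroup.eq_of_le_of_card_ge h h4.le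
  have htop : A ⊔ B = ⊤ :=
    eq_top_of_index_prime_of_lt hp hAi le_sup_left (fun h => hBA (le_sup_right.trans h))
  have hle : A ⊓ B ≤ Subgroup.center S := by
    intro c hc
    obtain ⟨hcA, hcB⟩ := Subgroup.mem_inf.mp hc
    have h1 : A ⊔ B ≤ Subgroup.centralizer {c} := by
      apply sup_le
      · intro b hb
        rw [Subgroup.mem_centralizer_singleton_iff]
        exact hAc b hb c hcA
      · intro b hb
        rw [Subgroup.mem_centralizer_singleton_iff]
        exact hBc b hb c hcB
    rw [htop] at h1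
    rw [Subgroup.mem_center_iff]
    intro g
    exact Subgroup.mem_centralizer_singleton_iff.mp (h1 (Subgroup.mem_top g))
  refine ⟨hle, ?_⟩
  calc (Subgroup.center S).index ≤ (A ⊓ B).index :=
        Nat.le_of_dvd (Nat.pos_of_ne_zero Subgroup.index_ne_zero_of_finite)
          (Subgroup.index_dvd_of_le hle)
    _ ≤ A.index * B.index := Subgroup.index_inf_le
    _ = p ^ 2 := by rw [hAi, hBi, pow_two]

end main

section sq
variable [Finite S] {p : ℕ}

theorem eq_of_le_of_index_eq {H K : Subgroup S} (h : H ≤ K) (hi : H.index = K.index) : H = K := by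
  have h2 := H.card_mul_index
  have h3 := K.card_mul_index
  rw [hi] at h2
  have hpos : 0 < K.index := Nat.pos_of_ne_zero Subgroup.index_ne_zero_of_finite
  have h4 : Nat.card K = Nat.card H := Nat.eq_of_mul_eq_mul_right hpos (h3.trans h2.symm)
  exact Subgroup.eq_of_le_of_card_ge h h4.le

theorem index_eq_of_between (hp : p.Prime) {Z C : Subgroup S} (hZ : Z.index = p ^ 2) (hZC : Z ≤ C)
    (h1 : ¬ C ≤ Z) (h2 : C ≠ ⊤) : C.index = p := by
  have hd : C.index ∣ p ^ 2 := hZ ▸ Subgroup.index_dvd_of_le hZC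
  obtain ⟨i, hi, hCi⟩ := (Nat.dvd_prime_pow hp).mp hd
  have hi0 : i ≠ 0 := by
    rintro rfl
    rw [pow_zero] at hCi
    exact h2 (Subgroup.index_eq_one.mp hCi)
  have hi2 : i ≠ 2 := by
    rintro rfl
    exact h1 (eq_of_le_of_index_eq hZC (hZ.trans hCi.symm)).ge
  have : i = 1 := by omega
  rw [hCi, this, pow_one]

theorem centralizer_index (hp : p.Prime) (hZ : (Subgroup.center S).index = p ^ 2) {x : S}
    (hx : x ∉ Subgroup.center S) : (Subgroup.centralizer {x}).index = p := by
  apply index_eq_of_between hp hZ (Subgroup.center_le_centralizer _)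
  · intro h
    exact hx (h (Subgroup.mem_centralizer_singleton_iff.mpr rfl))
  · intro h
    apply hx
    rw [Subgroup.mem_center_iff]
    intro g
    have : g ∈ Subgroup.centralizer {x} := by rw [h]; trivial
    exact Subgroup.mem_centralizer_singleton_iff.mp this

theorem centralizer_comm (hp : p.Prime) (hZ : (Subgroup.center S).index = p ^ 2) {x : S}
    (hx : x ∉ Subgroup.center S) :
    ∀ u ∈ Subgroup.centralizer {x}, ∀ v ∈ Subgroup.centralizer {x}, u * v = v * u := by
  have hC := centralizer_index hp hZ hx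
  set K := Subgroup.center S ⊔ Subgroup.zpowers x with hK
  have hKC : K ≤ Subgroup.centralizer {x} := by
    apply sup_le (Subgroup.center_le_centralizer _)
    rw [Subgroup.zpowers_le, Subgroup.mem_centralizer_singleton_iff]
  have hKi : K.index = p := by
    apply index_eq_of_between hp hZ le_sup_left
    · intro h
      exact hx (h (Subgroup.mem_sup_right (Subgroup.mem_zpowers x)))
    · intro h
      rw [← hK] at h
      rw [h, top_le_iff] at hKC
      rw [hKC, Subgroup.index_top] at hC
      exact hp.one_lt.ne hC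
  have hKeq : K = Subgroup.centralizer {x} := eq_of_le_of_index_eq hKC (hKi.trans hC.symm)
  rw [← hKeq]
  apply comm_sup_zpowers
  · intro a ha b _
    exact (Subgroup.mem_center_iff.mp ha b).symm
  · intro a ha
    exact (Subgroup.mem_center_iff.mp ha x).symm

theorem centralizer_eq_of_mem (hp : p.Prime) (hZ : (Subgroup.center S).index = p ^ 2)
    {B : Subgroup S} (hBc : ∀ a ∈ B, ∀ b ∈ B, a * b = b * a) (hBi : B.index = p) {x : S}
    (hxB : x ∈ B) (hx : x ∉ Subgroup.center S) : Subgroup.centralizer {x} = B := by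
  symm
  apply eq_of_le_of_index_eq
  · intro b hb
    rw [Subgroup.mem_centralizer_singleton_iff]
    exact hBc b hb x hxB
  · rw [hBi, centralizer_index hp hZ hx]

theorem card_abelian_index (hp : p.Prime) (hZ : (Subgroup.center S).index = p ^ 2) :
    Nat.card {B : Subgroup S // IsMulCommutative B ∧ B.index = p} = p + 1 := by
  classical
  have hna : ¬ ∀ a b : S, a * b = b * a := by
    intro h
    have : Subgroup.center S = ⊤ := by
      rw [eq_top_iff]
      intro z _
      rw [Subgroup.mem_center_iff]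
      intro g
      exact h g z
    rw [this, Subgroup.index_top] at hZ
    have := hp.one_lt
    nlinarith
  set Z := Subgroup.center S with hZdef
  let 𝓑 := {B : Subgroup S // IsMulCommutative B ∧ B.index = p}
  let f : {x : S // x ∉ Z} → 𝓑 := fun x =>
    ⟨Subgroup.centralizer {x.1}, (isMulComm_subgroup_iff _).mpr (centralizer_comm hp hZ x.2),
      centralizer_index hp hZ x.2⟩
  have : Fintype 𝓑 := Fintype.ofFinite _
  have hz := Z.card_mul_index
  rw [hZ] at hz
  have hfib : ∀ B : 𝓑, Nat.card {x // f x = B} + Nat.card Z = p * Nat.card Z := by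
    intro B
    have hBc := (isMulComm_subgroup_iff _).mp B.2.1
    have hZB : Z ≤ B.1 := center_le_of_abelian_index hp hna hBc B.2.2
    have hB := B.1.card_mul_index
    rw [B.2.2, ← hz] at hB
    have hBcard : Nat.card B.1 = p * Nat.card Z := by
      apply Nat.eq_of_mul_eq_mul_right hp.pos
      rw [hB]; ring
    have e : {x // f x = B} ≃ ((B.1 : Set S) \ (Z : Set S) : Set S) :=
      { toFun := fun x => ⟨x.1.1, by
          have h1 : Subgroup.centralizer {x.1.1} = B.1 := congrArg Subtype.val x.2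
          refine ⟨?_, x.1.2⟩
          show x.1.1 ∈ B.1
          rw [← h1, Subgroup.mem_centralizer_singleton_iff]⟩
        invFun := fun x => ⟨⟨x.1, x.2.2⟩,
          Subtype.ext (centralizer_eq_of_mem hp hZ hBc B.2.2 x.2.1 x.2.2)⟩
        left_inv := fun x => rfl
        right_inv := fun x => rfl }
    rw [Nat.card_congr e, Nat.card_coe_set_eq, Set.ncard_sdiff (by exact_mod_cast hZB) (Set.toFinite _),
      ← hBcard]
    have h5 : (Z : Set S).ncard = Nat.card Z := (Nat.card_coe_set_eq _).symm
    have h6 : (B.1 : Set S).ncard = Nat.card B.1 := (Nat.card_coe_set_eq _).symm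
    rw [h5, h6]
    have : Nat.card Z ≤ Nat.card B.1 := Subgroup.card_le_of_le hZB
    omega
  have htot : Nat.card {x : S // x ∉ Z} + Nat.card Z = Nat.card S := by
    have e : {x : S // x ∉ Z} ≃ ((Z : Set S)ᶜ : Set S) := Equiv.refl _
    rw [Nat.card_congr e, Nat.card_coe_set_eq, Set.ncard_compl]
    have h5 : (Z : Set S).ncard = Nat.card Z := (Nat.card_coe_set_eq _).symm
    rw [h5]
    have : Nat.card Z ≤ Nat.card S := Subgroup.card_le_card_group Z
    omega
  have hsum : Nat.card {x : S // x ∉ Z} = ∑ B : 𝓑, Nat.card {x // f x = B} := by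
    rw [← Nat.card_sigma]
    exact Nat.card_congr (Equiv.sigmaFiberEquiv f).symm
  have hzpos : 0 < Nat.card Z := Nat.card_pos
  obtain ⟨q, hq⟩ : ∃ q, p = q + 1 := ⟨p - 1, by have := hp.pos; omega⟩
  have hfib' : ∀ B : 𝓑, Nat.card {x // f x = B} = q * Nat.card Z := by
    intro B
    have := hfib B
    rw [hq] at this
    have e : (q + 1) * Nat.card Z = q * Nat.card Z + Nat.card Z := by ring
    omega
  simp only [hfib', Finset.sum_const, Finset.card_univ, smul_eq_mul] at hsum
  rw [hsum, ← hz, hq] at htot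
  have hqpos : 0 < q := by have := hp.one_lt; omega
  show Nat.card 𝓑 = p + 1
  rw [Nat.card_eq_fintype_card, hq]
  have h7 : (Fintype.card 𝓑) * (q * Nat.card Z) = (q + 1 + 1) * (q * Nat.card Z) := by
    have e : Nat.card Z * (q + 1) ^ 2 = (q + 1 + 1) * (q * Nat.card Z) + Nat.card Z := by ring
    omega
  exact Nat.eq_of_mul_eq_mul_right (Nat.mul_pos hqpos hzpos) h7

end sq

end Cfsg.Agent.Lib.Helper63
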