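import Mathlib

/-!
Regular abelian automorphism groups on an elementary abelian 2-subgroup `V` (Singer-cycle like
situation, as for Suzuki 2-groups): `K ∪ {0}` is closed under addition, `K` has no involutions,
and there is no nonzero alternating `K`-equivariant biadditive map `W × W → V` when `W ≅ V`.
-/

set_option autoImplicit false

namespace Cfsg.Agent.Lib.Helper63.Suz

variable {P : Type*} [Group P]

/-- `K` is an abelian group of automorphisms acting regularly on the non-identity elements of the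
elementary abelian 2-subgroup `V`. -/
structure RegV (K : Subgroup (MulAut P)) (V : Subgroup P) : Prop where
  comm : ∀ a ∈ K, ∀ b ∈ K, a * b = b * a
  sq : ∀ v ∈ V, v * v = 1
  vcomm : ∀ v ∈ V, ∀ w ∈ V, v * w = w * v
  inv : ∀ k ∈ K, ∀ v ∈ V, k v ∈ V
  tr : ∀ x ∈ V, ∀ y ∈ V, x ≠ 1 → y ≠ 1 → ∃ k ∈ K, k x = y
  un : ∀ k ∈ K, ∀ x ∈ V, x ≠ 1 → k x = x → k = 1

theorem RegV.inv_eq {K : Subgroup (MulAut P)} {V : Subgroup P} (h : RegV K V) {v : P} (hv : v ∈ V) :
    v⁻¹ = v := inv_eq_of_mul_eq_one_left (h.sq v hv)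

/-- `1 + m` is again in `K`. -/
theorem RegV.add_closure {K : Subgroup (MulAut P)} {V : Subgroup P} (h : RegV K V) {e : P}
    (he : e ∈ V) (he1 : e ≠ 1) {m : MulAut P} (hm : m ∈ K) (hm1 : m ≠ 1) :
    ∃ m' ∈ K, ∀ v ∈ V, m' v = v * m v := by
  have h1 : e * m e ∈ V := V.mul_mem he (h.inv m hm e he)
  have h2 : e * m e ≠ 1 := by
    intro h3
    apply hm1
    apply h.un m hm e he he1
    have : m e = e⁻¹ := eq_inv_of_mul_eq_one_right h3
    rw [this, h.inv_eq he]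
  obtain ⟨m', hm', hm'e⟩ := h.tr e he _ h1 he1 h2
  refine ⟨m', hm', ?_⟩
  intro v hv
  by_cases hv1 : v = 1
  · subst hv1; simp
  · obtain ⟨l, hl, rfl⟩ := h.tr e he v hv he1 hv1
    have c1 : m' (l e) = l (m' e) := by
      have := congrArg (fun f : MulAut P => f e) (h.comm m' hm' l hl)
      simpa [MulAut.mul_apply] using this
    have c2 : m (l e) = l (m e) := by
      have := congrArg (fun f : MulAut P => f e) (h.comm m hm l hl)
      simpa [MulAut.mul_apply] using this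
    rw [c1, hm'e, c2, map_mul]

theorem RegV.no_invol {K : Subgroup (MulAut P)} {V : Subgroup P} (h : RegV K V) {e : P}
    (he : e ∈ V) (he1 : e ≠ 1) {n : MulAut P} (hn : n ∈ K) (hn2 : n * n = 1) : n = 1 := by
  have hne : n e ∈ V := h.inv n hn e he
  have hnn : n (n e) = e := by
    have := congrArg (fun f : MulAut P => f e) hn2
    simpa [MulAut.mul_apply] using this
  by_cases hw : e * n e = 1
  · apply h.un n hn e he he1
    have : n e = e⁻¹ := eq_inv_of_mul_eq_one_right hw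
    rw [this, h.inv_eq he]
  · apply h.un n hn (e * n e) (V.mul_mem he hne) hw
    rw [map_mul, hnn, h.vcomm _ hne _ he]

theorem RegV.exists_sqrt [Finite P] {K : Subgroup (MulAut P)} {V : Subgroup P} (h : RegV K V) {e : P}
    (he : e ∈ V) (he1 : e ≠ 1) {k : MulAut P} (hk : k ∈ K) : ∃ m ∈ K, m * m = k := by
  haveI : Finite (MulAut P) :=
    Finite.of_injective (fun k : MulAut P => (k : P → P)) DFunLike.coe_injective
  have hinj : Function.Injective (fun m : K => m * m) := by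
    intro a b hab
    have hab' : (a : MulAut P) * a = b * b := congrArg Subtype.val hab
    have h1 : ((a : MulAut P) * (b : MulAut P)⁻¹) * ((a : MulAut P) * (b : MulAut P)⁻¹) = 1 := by
      have hc : (b : MulAut P)⁻¹ * (a : MulAut P) = a * (b : MulAut P)⁻¹ :=
        h.comm _ (K.inv_mem b.2) _ a.2
      calc ((a : MulAut P) * (b : MulAut P)⁻¹) * ((a : MulAut P) * (b : MulAut P)⁻¹)
          = (a : MulAut P) * ((b : MulAut P)⁻¹ * a) * (b : MulAut P)⁻¹ := by group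
        _ = (a : MulAut P) * (a * (b : MulAut P)⁻¹) * (b : MulAut P)⁻¹ := by rw [hc]
        _ = ((a : MulAut P) * a) * (b : MulAut P)⁻¹ * (b : MulAut P)⁻¹ := by group
        _ = 1 := by rw [hab']; group
    have h2 := h.no_invol he he1 (K.mul_mem a.2 (K.inv_mem b.2)) h1
    apply Subtype.ext
    exact mul_inv_eq_one.1 h2
  have hsurj := Finite.injective_iff_surjective.1 hinj
  obtain ⟨m, hm⟩ := hsurj ⟨k, hk⟩
  exact ⟨m, m.2, congrArg Subtype.val hm⟩

/-- **No alternating equivariant form.**  `π : H → V` a `K`-homomorphism, `c : H × H → V`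
biadditive, alternating, `K`-equivariant and vanishing on `ker π`.  Then `c` is trivial. -/
theorem RegV.alt_trivial [Finite P] {K : Subgroup (MulAut P)} {V H : Subgroup P} (h : RegV K V)
    (π : P → P) (c : P → P → P)
    (hKH : ∀ k ∈ K, ∀ g ∈ H, k g ∈ H)
    (hπV : ∀ g ∈ H, π g ∈ V)
    (hπmul : ∀ g ∈ H, ∀ g' ∈ H, π (g * g') = π g * π g')
    (hπK : ∀ k ∈ K, ∀ g ∈ H, π (k g) = k (π g))
    (hcV : ∀ g ∈ H, ∀ g' ∈ H, c g g' ∈ V)
    (hcl : ∀ g ∈ H, ∀ g' ∈ H, ∀ x ∈ H, c (g * g') x = c g x * c g' x)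
    (hcr : ∀ g ∈ H, ∀ g' ∈ H, ∀ x ∈ H, c x (g * g') = c x g * c x g')
    (hcc : ∀ g ∈ H, c g g = 1)
    (hcK : ∀ k ∈ K, ∀ g ∈ H, ∀ g' ∈ H, c (k g) (k g') = k (c g g'))
    (hker : ∀ g ∈ H, ∀ g' ∈ H, π g = 1 → c g g' = 1) :
    ∀ g ∈ H, ∀ g' ∈ H, c g g' = 1 := by
  have hsym : ∀ x ∈ H, ∀ y ∈ H, c x y = c y x := by
    intro x hx y hy
    have h1 := hcc (x * y) (H.mul_mem hx hy)
    rw [hcl x hx y hy _ (H.mul_mem hx hy), hcr x hx y hy x hx, hcr x hx y hy y hy, hcc x hx,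
      hcc y hy, one_mul, mul_one] at h1
    have h2 : c y x = (c x y)⁻¹ := eq_inv_of_mul_eq_one_right h1
    rw [h2, h.inv_eq (hcV x hx y hy)]
  have hπ1 : π 1 = 1 := by
    have := hπmul 1 H.one_mem 1 H.one_mem
    rw [one_mul] at this
    exact (mul_eq_left.1 this.symm)
  have hπinv : ∀ x ∈ H, π x⁻¹ = (π x)⁻¹ := by
    intro x hx
    have := hπmul x hx x⁻¹ (H.inv_mem hx)
    rw [mul_inv_cancel, hπ1] at this
    exact eq_inv_of_mul_eq_one_right this.symm
  have hcong : ∀ z ∈ H, ∀ x ∈ H, ∀ y ∈ H, π x = π y → c z x = c z y := by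
    intro z hz x hx y hy hxy
    have h1 : π (y⁻¹ * x) = 1 := by
      rw [hπmul _ (H.inv_mem hy) _ hx, hπinv y hy, hxy, inv_mul_cancel]
    have h2 : c z (y * (y⁻¹ * x)) = c z y * c z (y⁻¹ * x) :=
      hcr y hy _ (H.mul_mem (H.inv_mem hy) hx) z hz
    rw [mul_inv_cancel_left, hsym z hz _ (H.mul_mem (H.inv_mem hy) hx),
      hker _ (H.mul_mem (H.inv_mem hy) hx) z hz h1, mul_one] at h2
    exact h2
  intro g hg g' hg'
  by_cases he1 : π g = 1
  · exact hker g hg g' hg' he1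
  by_cases he2 : π g' = 1
  · rw [hsym g hg g' hg']; exact hker g' hg' g hg he2
  have heV : π g ∈ V := hπV g hg
  obtain ⟨k, hk, hke⟩ := h.tr (π g) heV (π g') (hπV g' hg') he1 he2
  rw [hcong g hg g' hg' (k g) (hKH k hk g hg) (by rw [hπK k hk g hg, hke])]
  obtain ⟨m, hm, rfl⟩ := h.exists_sqrt heV he1 hk
  by_cases hm1 : m = 1
  · subst hm1; simpa using hcc g hg
  obtain ⟨m', hm', hm'v⟩ := h.add_closure heV he1 hm hm1
  -- notation
  have hcomm : m * m' = m' * m := h.comm m hm m' hm'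
  have hfV : ∀ k ∈ K, c g (k g) ∈ V := fun k hk => hcV g hg _ (hKH k hk g hg)
  have E1 : ∀ k ∈ K, c g (k g) = k (c g (k⁻¹ g)) := by
    intro k hk
    have h1 := hcK k hk (k⁻¹ g) (hKH _ (K.inv_mem hk) g hg) g hg
    rw [MulAut.apply_inv_self] at h1
    rw [h1, hsym _ (hKH _ (K.inv_mem hk) g hg) g hg]
  have S1 : c g (m' g) = c g (m g) := by
    rw [hcong g hg (m' g) (hKH m' hm' g hg) (g * m g) (H.mul_mem hg (hKH m hm g hg))
      (by rw [hπK m' hm' g hg, hm'v _ heV, hπmul g hg _ (hKH m hm g hg), hπK m hm g hg]),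
      hcr g hg _ (hKH m hm g hg) g hg, hcc g hg, one_mul]
  have hmm' : m * m' ∈ K := K.mul_mem hm hm'
  have S2 : c g ((m * m')⁻¹ g) = c g (m⁻¹ g) * c g (m'⁻¹ g) := by
    have hA : (m * m')⁻¹ g ∈ H := hKH _ (K.inv_mem hmm') g hg
    have hB : m⁻¹ g ∈ H := hKH _ (K.inv_mem hm) g hg
    have hC : m'⁻¹ g ∈ H := hKH _ (K.inv_mem hm') g hg
    rw [← hcr _ hB _ hC g hg]
    apply hcong g hg _ hA _ (H.mul_mem hB hC)
    rw [hπmul _ hB _ hC, hπK _ (K.inv_mem hmm') g hg, hπK _ (K.inv_mem hm) g hg,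
      hπK _ (K.inv_mem hm') g hg]
    apply (m * m').injective
    rw [MulAut.apply_inv_self, map_mul]
    have t1 : (m * m') (m⁻¹ (π g)) = m' (π g) := by
      rw [hcomm, MulAut.mul_apply, MulAut.apply_inv_self]
    have t2 : (m * m') (m'⁻¹ (π g)) = m (π g) := by
      rw [MulAut.mul_apply, MulAut.apply_inv_self]
    rw [t1, t2, hm'v _ heV, mul_assoc, h.sq _ (h.inv m hm _ heV), mul_one]
  have S3 : c g ((m * m') g) = c g (m g) * c g ((m * m) g) := by
    have hA : (m * m') g ∈ H := hKH _ hmm' g hg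
    have hB : m g ∈ H := hKH _ hm g hg
    have hC : (m * m) g ∈ H := hKH _ (K.mul_mem hm hm) g hg
    rw [← hcr _ hB _ hC g hg]
    apply hcong g hg _ hA _ (H.mul_mem hB hC)
    rw [hπmul _ hB _ hC, hπK _ hmm' g hg, hπK _ hm g hg, hπK _ (K.mul_mem hm hm) g hg,
      MulAut.mul_apply, hm'v _ heV, map_mul, MulAut.mul_apply]
  have F1 := E1 _ (K.inv_mem hmm')
  have F2 := E1 _ (K.inv_mem hm)
  have F3 := E1 _ (K.inv_mem hm')
  rw [inv_inv] at F1 F2 F3
  rw [S1] at F3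
  rw [F1, F2, F3] at S2
  have G := congrArg (m * m') S2
  rw [MulAut.apply_inv_self, map_mul] at G
  have t1 : (m * m') (m⁻¹ (c g (m g))) = m' (c g (m g)) := by
    rw [hcomm, MulAut.mul_apply, MulAut.apply_inv_self]
  have t2 : (m * m') (m'⁻¹ (c g (m g))) = m (c g (m g)) := by
    rw [MulAut.mul_apply, MulAut.apply_inv_self]
  rw [t1, t2, hm'v _ (hfV m hm), mul_assoc, h.sq _ (h.inv m hm _ (hfV m hm)), mul_one, S3] at G
  exact mul_eq_left.1 G

end Cfsg.Agent.Lib.Helper63.Suz
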