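import Mathlib
import Cfsg.Agent.Lib.Helper63.SuzReg
import Cfsg.Agent.Lib.Helper24.PGroup

/-!
Finite 2-groups `P` with an abelian group `K` of automorphisms acting regularly on the involutions
(the situation of Higman's Suzuki 2-groups): basic facts.
-/

set_option autoImplicit false

namespace Cfsg.Agent.Lib.Helper63.Suz

variable {P : Type*} [Group P]

structure Setup (K : Subgroup (MulAut P)) : Prop where
  two : IsPGroup 2 P
  comm : ∀ a ∈ K, ∀ b ∈ K, a * b = b * a
  reg : ∀ x y : P, x ≠ 1 → x * x = 1 → y ≠ 1 → y * y = 1 → ∃! k : K, (k : MulAut P) x = y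

/-- `K`-invariant subgroups -/
def KInv (K : Subgroup (MulAut P)) (H : Subgroup P) : Prop := ∀ k ∈ K, ∀ x ∈ H, k x ∈ H

theorem exists_pow_invol (h2 : IsPGroup 2 P) {x : P} (hx : x ≠ 1) :
    ∃ j : ℕ, x ^ (2 ^ j) ≠ 1 ∧ x ^ (2 ^ j) * x ^ (2 ^ j) = 1 := by
  obtain ⟨k, hk⟩ := h2 x
  induction k with
  | zero => exact absurd (by simpa using hk) hx
  | succ k ih =>
    by_cases h1 : x ^ (2 ^ k) = 1
    · exact ih h1
    · exact ⟨k, h1, by rw [← pow_add, ← two_mul, ← pow_succ']; exact hk⟩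

theorem Setup.central [Finite P] {K : Subgroup (MulAut P)} (h : Setup K) {x : P} (hx : x * x = 1) :
    ∀ g : P, g * x = x * g := by
  haveI : Fact (Nat.Prime 2) := ⟨Nat.prime_two⟩
  by_cases hx1 : x = 1
  · subst hx1; simp
  haveI : Nontrivial P := ⟨⟨x, 1, hx1⟩⟩
  haveI := h.two.center_nontrivial
  obtain ⟨c, hc⟩ := exists_ne (1 : Subgroup.center P)
  have hc' : (c : P) ≠ 1 := fun h => hc (Subtype.ext h)
  obtain ⟨j, hj1, hj2⟩ := exists_pow_invol h.two hc'
  have hz : (c : P) ^ (2 ^ j) ∈ Subgroup.center P := Subgroup.pow_mem _ c.2 _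
  obtain ⟨k, hk, -⟩ := h.reg _ x hj1 hj2 hx1 hx
  intro g
  rw [← hk]
  have h1 := Subgroup.mem_center_iff.1 hz ((k : MulAut P)⁻¹ g)
  have h2 := congrArg (k : MulAut P) h1
  rw [map_mul, map_mul, MulAut.apply_inv_self] at h2
  exact h2

/-- the subgroup of elements of order at most two -/
def Setup.V [Finite P] {K : Subgroup (MulAut P)} (h : Setup K) : Subgroup P where
  carrier := {x | x * x = 1}
  one_mem' := by simp
  mul_mem' := by
    intro a b ha hb
    have ha' : a * a = 1 := ha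
    have hb' : b * b = 1 := hb
    show a * b * (a * b) = 1
    calc a * b * (a * b) = a * (b * a) * b := by group
      _ = a * (a * b) * b := by rw [h.central ha' b]
      _ = (a * a) * (b * b) := by group
      _ = 1 := by rw [ha', hb', one_mul]
  inv_mem' := by
    intro a ha
    have ha' : a * a = 1 := ha
    show a⁻¹ * a⁻¹ = 1
    rw [← mul_inv_rev, ha', inv_one]

theorem Setup.mem_V [Finite P] {K : Subgroup (MulAut P)} (h : Setup K) {x : P} :
    x ∈ h.V ↔ x * x = 1 := Iff.rfl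

theorem Setup.fpf [Finite P] {K : Subgroup (MulAut P)} (h : Setup K) {k : MulAut P} (hk : k ∈ K)
    {x : P} (hx : x ≠ 1) (hkx : k x = x) : k = 1 := by
  obtain ⟨j, hj1, hj2⟩ := exists_pow_invol h.two hx
  obtain ⟨k0, -, hk0⟩ := h.reg _ _ hj1 hj2 hj1 hj2
  have h1 := hk0 ⟨k, hk⟩ (by show k (x ^ 2 ^ j) = x ^ 2 ^ j; rw [map_pow, hkx])
  have h2 := hk0 1 (by simp)
  have h3 : (⟨k, hk⟩ : K) = 1 := h1.trans h2.symm
  exact congrArg Subtype.val h3

theorem Setup.regV [Finite P] {K : Subgroup (MulAut P)} (h : Setup K) : RegV K h.V where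
  comm := h.comm
  sq := fun v hv => hv
  vcomm := fun v _ w hw => h.central hw v
  inv := by
    intro k _ v hv
    have hv' : v * v = 1 := hv
    show k v * k v = 1
    rw [← map_mul, hv', map_one]
  tr := by
    intro x hx y hy hx1 hy1
    obtain ⟨k, hk, -⟩ := h.reg x y hx1 hx hy1 hy
    exact ⟨k, k.2, hk⟩
  un := fun k hk x _ hx1 hkx => h.fpf hk hx1 hkx

theorem Setup.V_le [Finite P] {K : Subgroup (MulAut P)} (h : Setup K) {H : Subgroup P}
    (hH : KInv K H) (hne : H ≠ ⊥) : h.V ≤ H := by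
  obtain ⟨x, hxH, hx1⟩ : ∃ x ∈ H, x ≠ 1 := by
    by_contra hcon
    push Not at hcon
    exact hne ((Subgroup.eq_bot_iff_forall H).2 hcon)
  obtain ⟨j, hj1, hj2⟩ := exists_pow_invol h.two hx1
  intro v hv
  by_cases hv1 : v = 1
  · subst hv1; exact H.one_mem
  obtain ⟨k, hk, -⟩ := h.reg _ v hj1 hj2 hv1 hv
  rw [← hk]
  exact hH k k.2 _ (H.pow_mem hxH _)

theorem KInv.inv_mem {K : Subgroup (MulAut P)} {H : Subgroup P} (hH : KInv K H) {k : MulAut P}
    (hk : k ∈ K) {x : P} (hx : x ∈ H) : k⁻¹ x ∈ H := hH _ (K.inv_mem hk) x hx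

/-- the centre of a `K`-invariant subgroup is `K`-invariant -/
theorem KInv.center {K : Subgroup (MulAut P)} {H : Subgroup P} (hH : KInv K H) :
    KInv K (H ⊓ Subgroup.centralizer (H : Set P)) := by
  intro k hk z hz
  refine Subgroup.mem_inf.2 ⟨hH k hk z hz.1, ?_⟩
  rw [Subgroup.mem_centralizer_iff]
  intro x hx
  have h1 := (Subgroup.mem_centralizer_iff.1 hz.2) (k⁻¹ x) (hH.inv_mem hk hx)
  have h2 := congrArg k h1
  rw [map_mul, map_mul, MulAut.apply_inv_self] at h2
  exact h2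

theorem KInv.closure {K : Subgroup (MulAut P)} {S : Set P} (hS : ∀ k ∈ K, ∀ x ∈ S, k x ∈ S) :
    KInv K (Subgroup.closure S) := by
  intro k hk x hx
  induction hx using Subgroup.closure_induction with
  | mem x hx => exact Subgroup.subset_closure (hS k hk x hx)
  | one => rw [map_one]; exact Subgroup.one_mem _
  | mul x y _ _ hx hy => rw [map_mul]; exact Subgroup.mul_mem _ hx hy
  | inv x _ hx => rw [map_inv]; exact Subgroup.inv_mem _ hx

end Cfsg.Agent.Lib.Helper63.Suz
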