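import Mathlib
import Cfsg.Agent.Lib.Helper63.SuzSetup

/-!
Higman: in a nonabelian 2-group with an abelian automorphism group regular on involutions the centre
is elementary abelian.  (Proved for all `K`-invariant subgroups by induction.)
-/

set_option autoImplicit false

namespace Cfsg.Agent.Lib.Helper63.Suz

open scoped commutatorElement

variable {P : Type*} [Group P]

/-- `Z` is central in `H` and contains all commutators of `H`. -/
structure Cls2 (H Z : Subgroup P) : Prop where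
  le : Z ≤ H
  cen : ∀ z ∈ Z, ∀ x ∈ H, z * x = x * z
  comm : ∀ g ∈ H, ∀ x ∈ H, ⁅g, x⁆ ∈ Z

theorem Cls2.bil_left {H Z : Subgroup P} (hc : Cls2 H Z) {g g' x : P} (hg : g ∈ H) (hg' : g' ∈ H)
    (hx : x ∈ H) : ⁅g * g', x⁆ = ⁅g, x⁆ * ⁅g', x⁆ := by
  have h1 := hc.cen _ (hc.comm g' hg' x hx) g hg
  have h2 := hc.cen _ (hc.comm g' hg' x hx) _ (hc.le (hc.comm g hg x hx))
  rw [← h2]
  rw [commutatorElement_def] at h1
  simp only [commutatorElement_def]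
  calc g * g' * x * (g * g')⁻¹ * x⁻¹ = (g * (g' * x * g'⁻¹ * x⁻¹)) * x * g⁻¹ * x⁻¹ := by group
    _ = ((g' * x * g'⁻¹ * x⁻¹) * g) * x * g⁻¹ * x⁻¹ := by rw [h1]
    _ = g' * x * g'⁻¹ * x⁻¹ * (g * x * g⁻¹ * x⁻¹) := by group

theorem Cls2.bil_right {H Z : Subgroup P} (hc : Cls2 H Z) {g g' x : P} (hg : g ∈ H) (hg' : g' ∈ H)
    (hx : x ∈ H) : ⁅x, g * g'⁆ = ⁅x, g⁆ * ⁅x, g'⁆ := by
  have h1 := hc.cen _ (hc.comm x hx g' hg') g hg
  rw [commutatorElement_def] at h1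
  simp only [commutatorElement_def]
  calc x * (g * g') * x⁻¹ * (g * g')⁻¹ = x * g * x⁻¹ * g⁻¹ * (g * (x * g' * x⁻¹ * g'⁻¹)) * g⁻¹ := by
        group
    _ = x * g * x⁻¹ * g⁻¹ * ((x * g' * x⁻¹ * g'⁻¹) * g) * g⁻¹ := by rw [h1]
    _ = x * g * x⁻¹ * g⁻¹ * (x * g' * x⁻¹ * g'⁻¹) := by group

theorem Cls2.mul_pow {H Z : Subgroup P} (hc : Cls2 H Z) {x y : P} (hx : x ∈ H) (hy : y ∈ H) (n : ℕ) :
    (x * y) ^ n = x ^ n * y ^ n * ⁅y, x⁆ ^ (n.choose 2) :=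
  Cfsg.Agent.Lib.Helper24.mul_pow_of_commute x y (hc.cen _ (hc.comm y hy x hx) x hx)
    (hc.cen _ (hc.comm y hy x hx) y hy) n

theorem choose_two_pow (d : ℕ) : (2 ^ (d + 1)).choose 2 = 2 ^ d * (2 ^ (d + 1) - 1) := by
  rw [Nat.choose_two_right]
  have : 2 ^ (d + 1) * (2 ^ (d + 1) - 1) = 2 * (2 ^ d * (2 ^ (d + 1) - 1)) := by
    rw [← mul_assoc, ← pow_succ']
  rw [this, Nat.mul_div_cancel_left _ (by norm_num)]


theorem pow_two_pow_mul_eq_one {x : P} {i d : ℕ} (m : ℕ) (hx : x ^ (2 ^ i) = 1) (hid : i ≤ d) :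
    x ^ (2 ^ d * m) = 1 := by
  obtain ⟨e, rfl⟩ := Nat.exists_eq_add_of_le hid
  rw [pow_add, mul_assoc, pow_mul, hx, one_pow]

theorem comm_eq_squares (g x : P) :
    ⁅g, x⁆ = (g * x) * (g * x) * ((x⁻¹ * g⁻¹ * x) * (x⁻¹ * g⁻¹ * x)) * (x⁻¹ * x⁻¹) := by
  rw [commutatorElement_def]; group

/-- the context of the induction step -/
structure Ctx (K : Subgroup (MulAut P)) (H Z : Subgroup P) (d : ℕ) : Prop where
  set : Setup K
  hH : KInv K H
  hZH : Z ≤ H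
  hZc : ∀ z ∈ Z, ∀ x ∈ H, z * x = x * z
  hZmem : ∀ z ∈ H, (∀ x ∈ H, z * x = x * z) → z ∈ Z
  hZK : KInv K Z
  hd1 : 1 ≤ d
  hexp : ∀ z ∈ Z, z ^ (2 ^ (d + 1)) = 1
  hz₁ : ∃ z₁ ∈ Z, z₁ ^ (2 ^ d) ≠ 1

theorem pow_two_pow_mul_self (g : P) (j : ℕ) : g ^ (2 ^ j) * g ^ (2 ^ j) = g ^ (2 ^ (j + 1)) := by
  rw [← pow_add, ← two_mul, ← pow_succ']

theorem Ctx.sq_onto {K : Subgroup (MulAut P)} {H Z : Subgroup P} {d : ℕ} (c : Ctx K H Z d)
    {j : ℕ} (hj : j ≤ d) {v : P} (hv : v * v = 1) : ∃ z ∈ Z, z ^ (2 ^ j) = v := by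
  obtain ⟨z₁, hz₁, hz₁d⟩ := c.hz₁
  by_cases hv1 : v = 1
  · exact ⟨1, Z.one_mem, by rw [one_pow, hv1]⟩
  have hu : z₁ ^ (2 ^ d) * z₁ ^ (2 ^ d) = 1 := by
    rw [pow_two_pow_mul_self]; exact c.hexp z₁ hz₁
  obtain ⟨k, hk, -⟩ := c.set.reg _ v hz₁d hu hv1 hv
  refine ⟨((k : MulAut P) z₁) ^ (2 ^ (d - j)), Z.pow_mem (c.hZK k k.2 z₁ hz₁) _, ?_⟩
  rw [← pow_mul, ← pow_add, Nat.sub_add_cancel hj, ← map_pow, hk]

theorem Ctx.red {K : Subgroup (MulAut P)} {H Z : Subgroup P} {d : ℕ} (c : Ctx K H Z d) :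
    ∀ j ≤ d + 1, ∀ g ∈ H, g ^ (2 ^ j) = 1 → g ∈ Z := by
  intro j
  induction j with
  | zero =>
    intro _ g _ hg1
    simp at hg1
    rw [hg1]; exact Z.one_mem
  | succ j ih =>
    intro hj g hg hg1
    have hv : g ^ (2 ^ j) * g ^ (2 ^ j) = 1 := by rw [pow_two_pow_mul_self]; exact hg1
    obtain ⟨z, hz, hzv⟩ := c.sq_onto (by omega : j ≤ d) hv
    have hcomm : Commute g z⁻¹ := Commute.inv_right ((c.hZc z hz g hg).symm)
    have h1 : (g * z⁻¹) ^ (2 ^ j) = 1 := by rw [hcomm.mul_pow, inv_pow, hzv, mul_inv_cancel]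
    have h2 := ih (by omega) (g * z⁻¹) (H.mul_mem hg (H.inv_mem (c.hZH hz))) h1
    have : g = (g * z⁻¹) * z := by group
    rw [this]; exact Z.mul_mem h2 hz

theorem Ctx.caseA [Finite P] {K : Subgroup (MulAut P)} {H Z : Subgroup P} {d : ℕ} (c : Ctx K H Z d)
    (hsq : ∀ g ∈ H, g * g ∈ Z) : ∀ a ∈ H, ∀ b ∈ H, a * b = b * a := by
  have hcl : Cls2 H Z := by
    refine ⟨c.hZH, c.hZc, ?_⟩
    intro g hg x hx
    rw [comm_eq_squares]
    exact Z.mul_mem (Z.mul_mem (hsq _ (H.mul_mem hg hx))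
      (hsq _ (H.mul_mem (H.mul_mem (H.inv_mem hx) (H.inv_mem hg)) hx))) (hsq _ (H.inv_mem hx))
  have hc2 : ∀ g ∈ H, ∀ x ∈ H, ⁅g, x⁆ * ⁅g, x⁆ = 1 := by
    intro g hg x hx
    rw [← hcl.bil_left hg hg hx, commutatorElement_eq_one_iff_mul_comm]
    exact c.hZc _ (hsq g hg) x hx
  have key := c.set.regV.alt_trivial (H := H) (fun g => g ^ (2 ^ (d + 1))) (fun g x => ⁅g, x⁆)
    c.hH
    (by
      intro g hg
      show g ^ (2 ^ (d + 1)) * g ^ (2 ^ (d + 1)) = 1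
      rw [← (Commute.refl g).mul_pow]
      exact c.hexp _ (hsq g hg))
    (by
      intro g hg g' hg'
      show (g * g') ^ (2 ^ (d + 1)) = g ^ (2 ^ (d + 1)) * g' ^ (2 ^ (d + 1))
      rw [hcl.mul_pow hg hg', choose_two_pow]
      rw [pow_two_pow_mul_eq_one (i := 1) _ (by rw [pow_one, pow_two]; exact hc2 g' hg' g hg) c.hd1,
        mul_one])
    (by intro k _ g _; exact (map_pow k g _).symm)
    (by intro g hg g' hg'; exact hc2 g hg g' hg')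
    (by intro g hg g' hg' x hx; exact hcl.bil_left hg hg' hx)
    (by intro g hg g' hg' x hx; exact hcl.bil_right hg hg' hx)
    (by intro g _; exact commutatorElement_self g)
    (by intro k _ g _ g' _; exact (map_commutatorElement k g g').symm)
    (by
      intro g hg g' hg' h1
      have hgZ := c.red (d + 1) le_rfl g hg h1
      show ⁅g, g'⁆ = 1
      rw [commutatorElement_eq_one_iff_mul_comm]
      exact c.hZc g hgZ g' hg')
  intro a ha b hb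
  exact commutatorElement_eq_one_iff_mul_comm.1 (key a ha b hb)


theorem Ctx.caseB [Finite P] {K : Subgroup (MulAut P)} {H Z : Subgroup P} {d : ℕ} (c : Ctx K H Z d)
    (M : Subgroup P) (hMK : KInv K M) (hZM : Z ≤ M) (hMH : M ≤ H)
    (hMab : ∀ a ∈ M, ∀ b ∈ M, a * b = b * a) (hsqM : ∀ g ∈ H, g * g ∈ M) :
    ∀ g ∈ H, g * g ∈ Z := by
  haveI : Fact (Nat.Prime 2) := ⟨Nat.prime_two⟩
  have hd1 := c.hd1
  have hcomM : ∀ g ∈ H, ∀ x ∈ H, ⁅g, x⁆ ∈ M := by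
    intro g hg x hx
    rw [comm_eq_squares]
    exact M.mul_mem (M.mul_mem (hsqM _ (H.mul_mem hg hx))
      (hsqM _ (H.mul_mem (H.mul_mem (H.inv_mem hx) (H.inv_mem hg)) hx))) (hsqM _ (H.inv_mem hx))
  have hinv : ∀ a ∈ M, ∀ g ∈ H, g * ⁅a, g⁆ * g⁻¹ = ⁅a, g⁆⁻¹ := by
    intro a ha g hg
    have h1 : (g * g) * a⁻¹ = a⁻¹ * (g * g) := hMab _ (hsqM g hg) _ (M.inv_mem ha)
    rw [commutatorElement_def]
    calc g * (a * g * a⁻¹ * g⁻¹) * g⁻¹ = g * a * g⁻¹ * ((g * g) * a⁻¹) * g⁻¹ * g⁻¹ := by group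
      _ = g * a * g⁻¹ * (a⁻¹ * (g * g)) * g⁻¹ * g⁻¹ := by rw [h1]
      _ = (a * g * a⁻¹ * g⁻¹)⁻¹ := by group
  have hinvsq : ∀ g ∈ H, ∀ j : ℕ, ∀ b ∈ M, g * b * g⁻¹ = b⁻¹ → b ^ (2 ^ (j + 1)) = 1 →
      b * b = 1 := by
    intro g hg j
    induction j with
    | zero => intro b _ _ h1; rw [← pow_two]; simpa using h1
    | succ j ih =>
      intro b hb hbi h1
      apply ih b hb hbi
      have hb' : b ^ (2 ^ j) ∈ Z := c.red 2 (by omega) _ (hMH (M.pow_mem hb _))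
        (by rw [← pow_mul, ← pow_add]; exact h1)
      have h2 : g * b ^ (2 ^ j) * g⁻¹ = (b ^ (2 ^ j))⁻¹ := by rw [← conj_pow, hbi, inv_pow]
      have h3 : g * b ^ (2 ^ j) * g⁻¹ = b ^ (2 ^ j) := by
        rw [← c.hZc _ hb' g hg]; group
      rw [← pow_two_pow_mul_self]
      rw [h3] at h2
      exact mul_eq_one_iff_eq_inv.2 h2
  obtain ⟨N, hN⟩ := IsPGroup.iff_card.1 c.set.two
  have hpowN : ∀ b : P, b ^ (2 ^ (N + 1)) = 1 := by
    intro b; rw [pow_succ, pow_mul, ← hN, pow_card_eq_one', one_pow]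
  have hii : ∀ a ∈ M, ∀ g ∈ H, ⁅a, g⁆ * ⁅a, g⁆ = 1 := fun a ha g hg =>
    hinvsq g hg N _ (hcomM a (hMH ha) g hg) (hinv a ha g hg) (hpowN _)
  have hiii : ∀ a ∈ M, a * a ∈ Z := by
    intro a ha
    apply c.hZmem _ (H.mul_mem (hMH ha) (hMH ha))
    intro x hx
    obtain ⟨b, hb⟩ : ∃ b, b = ⁅a, x⁆ := ⟨_, rfl⟩
    have hbM : b ∈ M := hb ▸ hcomM a (hMH ha) x hx
    have hb2 : b * b = 1 := hb ▸ hii a ha x hx
    have hax : a * x = b * x * a := by rw [hb, commutatorElement_def]; group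
    have hba : a * b = b * a := hMab a ha b hbM
    have hbx : x * b = b * x := by
      have h1 := hinv a ha x hx
      rw [← hb] at h1
      have h2 : b⁻¹ = b := inv_eq_of_mul_eq_one_left hb2
      rw [h2] at h1
      exact mul_inv_eq_iff_eq_mul.1 h1
    calc a * a * x = a * (a * x) := by group
      _ = a * (b * x * a) := by rw [hax]
      _ = (a * b) * x * a := by group
      _ = b * (a * x) * a := by rw [hba]; group
      _ = b * (b * x * a) * a := by rw [hax]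
      _ = (b * b) * x * a * a := by group
      _ = x * (a * a) := by rw [hb2]; group
  have hiv : ∀ g ∈ H, ∀ x ∈ H, ⁅g, x⁆ ^ (2 ^ 2) = 1 := by
    intro g hg x hx
    obtain ⟨cc, hcc⟩ : ∃ cc, cc = ⁅g, x⁆ := ⟨_, rfl⟩
    have hcM : cc ∈ M := hcc ▸ hcomM g hg x hx
    obtain ⟨t, ht⟩ : ∃ t, t = ⁅cc, g⁆ := ⟨_, rfl⟩
    have htM : t ∈ M := ht ▸ hcomM cc (hMH hcM) g hg
    have ht2 : t * t = 1 := ht ▸ hii cc hcM g hg
    have hs : ⁅g * g, x⁆ = t⁻¹ * cc * cc := by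
      rw [ht, hcc]; simp only [commutatorElement_def, mul_inv_rev, inv_inv, mul_assoc]
      simp
    have hs2 := hii (g * g) (hsqM g hg) x hx
    have h2 : t⁻¹ = t := inv_eq_of_mul_eq_one_left ht2
    rw [hs, h2] at hs2
    have htc : cc * t = t * cc := hMab cc hcM t htM
    rw [← hcc]
    have h5 : (t * t) * (cc * cc * cc * cc) = 1 := by
      calc (t * t) * (cc * cc * cc * cc) = t * (t * cc) * cc * cc * cc := by group
        _ = t * (cc * t) * cc * cc * cc := by rw [htc]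
        _ = t * cc * (t * cc) * cc * cc := by group
        _ = t * cc * (cc * t) * cc * cc := by rw [htc]
        _ = (t * cc * cc) * (t * cc * cc) := by group
        _ = 1 := hs2
    rw [ht2, one_mul] at h5
    rw [← h5]; norm_num [pow_succ]
  have hcl : Cls2 H Z := ⟨c.hZH, c.hZc, fun g hg x hx =>
    c.red 2 (by omega) _ (hMH (hcomM g hg x hx)) (hiv g hg x hx)⟩
  by_cases hMZ : M ≤ Z
  · exact fun g hg => hMZ (hsqM g hg)
  obtain ⟨a₀, ha₀M, ha₀Z⟩ := SetLike.not_le_iff_exists.1 hMZ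
  have honto : ∀ v : P, v * v = 1 → ∃ w ∈ M, w ^ (2 ^ (d + 1)) = v := by
    intro v hv
    by_cases hv1 : v = 1
    · exact ⟨1, M.one_mem, by rw [one_pow, hv1]⟩
    have hu1 : a₀ ^ (2 ^ (d + 1)) ≠ 1 := fun h1 => ha₀Z (c.red (d + 1) le_rfl a₀ (hMH ha₀M) h1)
    have hu2 : a₀ ^ (2 ^ (d + 1)) * a₀ ^ (2 ^ (d + 1)) = 1 := by
      rw [← (Commute.refl a₀).mul_pow]; exact c.hexp _ (hiii a₀ ha₀M)
    obtain ⟨k, hk, -⟩ := c.set.reg _ v hu1 hu2 hv1 hv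
    exact ⟨(k : MulAut P) a₀, hMK k k.2 a₀ ha₀M, by rw [← map_pow, hk]⟩
  have hkerM : ∀ g ∈ H, g ^ (2 ^ (d + 1 + 1)) = 1 → g ∈ M := by
    intro g hg h1
    have hv : g ^ (2 ^ (d + 1)) * g ^ (2 ^ (d + 1)) = 1 := by rw [pow_two_pow_mul_self]; exact h1
    obtain ⟨w, hw, hwv⟩ := honto _ hv
    have h2 : (g * w⁻¹) ^ (2 ^ (d + 1)) = 1 := by
      rw [hcl.mul_pow hg (H.inv_mem (hMH hw)), choose_two_pow,
        pow_two_pow_mul_eq_one (i := 1) _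
          (by rw [pow_one, pow_two]; exact hii _ (M.inv_mem hw) g hg) hd1,
        mul_one, inv_pow, hwv, mul_inv_cancel]
    have h3 := c.red (d + 1) le_rfl _ (H.mul_mem hg (H.inv_mem (hMH hw))) h2
    have : g = (g * w⁻¹) * w := by group
    rw [this]; exact M.mul_mem (hZM h3) hw
  have key := c.set.regV.alt_trivial (H := H) (fun g => g ^ (2 ^ (d + 1 + 1)))
    (fun g x => ⁅g, x⁆ * ⁅g, x⁆)
    c.hH
    (by
      intro g hg
      show g ^ (2 ^ (d + 1 + 1)) * g ^ (2 ^ (d + 1 + 1)) = 1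
      have h4 : (g * g) * (g * g) = g ^ (2 ^ 2) := by norm_num [pow_succ, mul_assoc]
      have h5 := c.hexp _ (hiii (g * g) (hsqM g hg))
      rw [h4, ← pow_mul, ← pow_add] at h5
      rw [pow_two_pow_mul_self]
      have : d + 1 + 1 + 1 = 2 + (d + 1) := by omega
      rw [this]; exact h5)
    (by
      intro g hg g' hg'
      show (g * g') ^ (2 ^ (d + 1 + 1)) = g ^ (2 ^ (d + 1 + 1)) * g' ^ (2 ^ (d + 1 + 1))
      rw [hcl.mul_pow hg hg', choose_two_pow,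
        pow_two_pow_mul_eq_one (i := 2) _ (hiv g' hg' g hg) (by omega), mul_one])
    (by intro k _ g _; exact (map_pow k g _).symm)
    (by
      intro g hg g' hg'
      show (⁅g, g'⁆ * ⁅g, g'⁆) * (⁅g, g'⁆ * ⁅g, g'⁆) = 1
      rw [← hiv g hg g' hg']; norm_num [pow_succ, mul_assoc])
    (by
      intro g hg g' hg' x hx
      show ⁅g * g', x⁆ * ⁅g * g', x⁆ = (⁅g, x⁆ * ⁅g, x⁆) * (⁅g', x⁆ * ⁅g', x⁆)
      rw [hcl.bil_left hg hg' hx]
      have h1 := hcl.cen _ (hcl.comm g' hg' x hx) _ (hcl.le (hcl.comm g hg x hx))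
      calc ⁅g, x⁆ * ⁅g', x⁆ * (⁅g, x⁆ * ⁅g', x⁆) = ⁅g, x⁆ * (⁅g', x⁆ * ⁅g, x⁆) * ⁅g', x⁆ := by group
        _ = ⁅g, x⁆ * (⁅g, x⁆ * ⁅g', x⁆) * ⁅g', x⁆ := by rw [h1]
        _ = _ := by group)
    (by
      intro g hg g' hg' x hx
      show ⁅x, g * g'⁆ * ⁅x, g * g'⁆ = (⁅x, g⁆ * ⁅x, g⁆) * (⁅x, g'⁆ * ⁅x, g'⁆)
      rw [hcl.bil_right hg hg' hx]
      have h1 := hcl.cen _ (hcl.comm x hx g' hg') _ (hcl.le (hcl.comm x hx g hg))
      calc ⁅x, g⁆ * ⁅x, g'⁆ * (⁅x, g⁆ * ⁅x, g'⁆) = ⁅x, g⁆ * (⁅x, g'⁆ * ⁅x, g⁆) * ⁅x, g'⁆ := by group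
        _ = ⁅x, g⁆ * (⁅x, g⁆ * ⁅x, g'⁆) * ⁅x, g'⁆ := by rw [h1]
        _ = _ := by group)
    (by intro g _; show ⁅g, g⁆ * ⁅g, g⁆ = 1; rw [commutatorElement_self, one_mul])
    (by
      intro k _ g _ g' _
      show ⁅k g, k g'⁆ * ⁅k g, k g'⁆ = k (⁅g, g'⁆ * ⁅g, g'⁆)
      rw [map_mul, map_commutatorElement])
    (by
      intro g hg g' hg' h1
      exact hii g (hkerM g hg h1) g' hg')
  intro g hg
  apply c.hZmem _ (H.mul_mem hg hg)
  intro x hx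
  have h1 : ⁅g, x⁆ * ⁅g, x⁆ = 1 := key g hg x hx
  rw [← hcl.bil_left hg hg hx, commutatorElement_eq_one_iff_mul_comm] at h1
  exact h1


/-- **Higman.** A `K`-invariant subgroup whose centre is not elementary abelian is abelian. -/
theorem Setup.abelian_of_center [Finite P] {K : Subgroup (MulAut P)} (h : Setup K) :
    ∀ (n : ℕ) (H : Subgroup P), Nat.card H = n → KInv K H →
      (∃ z ∈ H, (∀ x ∈ H, z * x = x * z) ∧ z * z ≠ 1) → ∀ a ∈ H, ∀ b ∈ H, a * b = b * a := by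
  haveI : Fact (Nat.Prime 2) := ⟨Nat.prime_two⟩
  intro n
  induction n using Nat.strong_induction_on with
  | _ n IH =>
    intro H hn hH ⟨z₀, hz₀, hz₀c, hz₀2⟩
    obtain ⟨Z, hZdef⟩ : ∃ Z : Subgroup P, Z = H ⊓ Subgroup.centralizer (H : Set P) := ⟨_, rfl⟩
    have hZH : Z ≤ H := hZdef ▸ inf_le_left
    have hZc : ∀ z ∈ Z, ∀ x ∈ H, z * x = x * z := by
      intro z hz x hx
      rw [hZdef] at hz
      exact ((Subgroup.mem_centralizer_iff.1 hz.2) x hx).symm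
    have hZmem : ∀ z ∈ H, (∀ x ∈ H, z * x = x * z) → z ∈ Z := by
      intro z hz hzc
      rw [hZdef]
      exact Subgroup.mem_inf.2 ⟨hz, Subgroup.mem_centralizer_iff.2 (fun x hx => (hzc x hx).symm)⟩
    have hZK : KInv K Z := hZdef ▸ hH.center
    have hz₀Z : z₀ ∈ Z := hZmem z₀ hz₀ hz₀c
    by_cases hHZ : H ≤ Z
    · intro a ha b hb
      exact hZc a (hHZ ha) b hb
    have hZlt : Z < H := lt_of_le_not_ge hZH hHZ
    obtain ⟨M₀, hZM₀, hM₀H, -, -, hM₀sq, -⟩ :=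
      Cfsg.Agent.Lib.Helper24.exists_maximal_normal 2 (h.two.to_subgroup H) hZlt
    obtain ⟨S, hS⟩ : ∃ S : Set P, S = {x | x ∈ Z ∨ ∃ g ∈ H, x = g * g} := ⟨_, rfl⟩
    have hMK : KInv K (Subgroup.closure S) := by
      apply KInv.closure
      intro k hk x hx
      rw [hS] at hx ⊢
      rcases hx with hx | ⟨g, hg, rfl⟩
      · exact Or.inl (hZK k hk x hx)
      · exact Or.inr ⟨k g, hH k hk g hg, map_mul k g g⟩
    have hMM₀ : Subgroup.closure S ≤ M₀ := by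
      rw [Subgroup.closure_le]
      intro x hx
      rw [hS] at hx
      rcases hx with hx | ⟨g, hg, rfl⟩
      · exact hZM₀ hx
      · rw [← pow_two]; exact hM₀sq g hg
    have hMlt : Subgroup.closure S < H := lt_of_le_of_lt hMM₀ hM₀H
    have hZM : Z ≤ Subgroup.closure S := by
      intro x hx
      exact Subgroup.subset_closure (by rw [hS]; exact Or.inl hx)
    have hsqM : ∀ g ∈ H, g * g ∈ Subgroup.closure S := by
      intro g hg
      exact Subgroup.subset_closure (by rw [hS]; exact Or.inr ⟨g, hg, rfl⟩)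
    have hMab : ∀ a ∈ Subgroup.closure S, ∀ b ∈ Subgroup.closure S, a * b = b * a :=
      IH _ (by rw [← hn]; exact Cfsg.Agent.Lib.Helper24.card_lt_of_lt hMlt) _ rfl hMK
        ⟨z₀, hZM hz₀Z, fun x hx => hz₀c x (hMlt.le hx), hz₀2⟩
    -- the exponent of `Z`
    have hex : ∃ e : ℕ, ∀ z ∈ Z, z ^ (2 ^ e) = 1 := by
      obtain ⟨N, hN⟩ := IsPGroup.iff_card.1 h.two
      exact ⟨N, fun z _ => by rw [← hN]; exact pow_card_eq_one'⟩
    obtain ⟨d, hd1, hexp, hz₁⟩ : ∃ d : ℕ, 1 ≤ d ∧ (∀ z ∈ Z, z ^ (2 ^ (d + 1)) = 1) ∧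
        ∃ z₁ ∈ Z, z₁ ^ (2 ^ d) ≠ 1 := by
      classical
      have hfs := Nat.find_spec hex
      have hfm : ∀ m, m < Nat.find hex → ¬ ∀ z ∈ Z, z ^ (2 ^ m) = 1 := fun m hm => Nat.find_min hex hm
      obtain ⟨e, he⟩ : ∃ e, e = Nat.find hex := ⟨_, rfl⟩
      rw [← he] at hfs hfm
      rcases e with _ | _ | d
      · exfalso
        have := hfs z₀ hz₀Z
        simp at this
        apply hz₀2; rw [this, one_mul]
      · exfalso
        have := hfs z₀ hz₀Z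
        apply hz₀2
        rw [← pow_two]; simpa using this
      · refine ⟨d + 1, by omega, hfs, ?_⟩
        have := hfm (d + 1) (by omega)
        push Not at this
        exact this
    have c : Ctx K H Z d := ⟨h, hH, hZH, hZc, hZmem, hZK, hd1, hexp, hz₁⟩
    exact c.caseA (c.caseB _ hMK hZM hMlt.le hMab hsqM)

/-- the centre of a nonabelian such group is elementary abelian -/
theorem Setup.center_sq [Finite P] {K : Subgroup (MulAut P)} (h : Setup K)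
    (hna : ∃ x y : P, x * y ≠ y * x) {z : P} (hz : z ∈ Subgroup.center P) : z * z = 1 := by
  by_contra hz2
  obtain ⟨x, y, hxy⟩ := hna
  apply hxy
  exact h.abelian_of_center _ ⊤ rfl (fun _ _ _ _ => Subgroup.mem_top _)
    ⟨z, Subgroup.mem_top _, fun x _ => ((Subgroup.mem_center_iff.1 hz) x).symm, hz2⟩
    x (Subgroup.mem_top _) y (Subgroup.mem_top _)

end Cfsg.Agent.Lib.Helper63.Suz
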