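import Mathlib

/-!
Additive and biadditive maps on a finite field of characteristic 2 as combinations of field
automorphisms (Dedekind independence + dimension count).
-/

set_option autoImplicit false

namespace Cfsg.Agent.Lib.Helper63.FFAdd

open Module

variable {F : Type*} [Field F]

theorem aut_linearIndependent :
    LinearIndependent F (fun σ : F ≃+* F => ((σ : F →+* F) : F → F)) := by
  have h := linearIndependent_monoidHom F F
  have hinj : Function.Injective (fun σ : F ≃+* F => ((σ : F →+* F) : F →* F)) := by
    intro a b hab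
    ext x
    exact DFunLike.congr_fun hab x
  exact h.comp _ hinj

noncomputable instance autFintype [Finite F] : Fintype (F ≃+* F) :=
  haveI : Finite (F ≃+* F) := Finite.of_injective (fun k : F ≃+* F => (k : F → F)) DFunLike.coe_injective
  Fintype.ofFinite _

/-- independence in pointwise form -/
theorem aut_indep [Finite F] (c : (F ≃+* F) → F) (h : ∀ x : F, ∑ σ, c σ * σ x = 0) : ∀ σ, c σ = 0 := by
  have h1 := Fintype.linearIndependent_iff.1 (aut_linearIndependent (F := F)) c
  apply h1
  funext x
  simpa [Finset.sum_apply] using h x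

theorem card_aut [Fintype F] [CharP F 2] :
    letI := ZMod.algebra F 2
    Fintype.card (F ≃+* F) = finrank (ZMod 2) F := by
  letI := ZMod.algebra F 2
  rw [← IsGalois.card_aut_eq_finrank (ZMod 2) F, ← Nat.card_eq_fintype_card]
  apply Nat.card_congr
  refine ⟨fun σ => AlgEquiv.ofRingEquiv (f := σ) ?_, fun σ => σ.toRingEquiv, ?_, ?_⟩
  · intro x
    have : (σ : F →+* F).comp (algebraMap (ZMod 2) F) = algebraMap (ZMod 2) F := Subsingleton.elim _ _
    exact DFunLike.congr_fun this x
  · intro σ; ext x; rfl
  · intro σ; ext x; rfl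

/-- every additive endomorphism is a combination of automorphisms -/
theorem add_repr [Fintype F] [CharP F 2] (f : F →+ F) :
    ∃ c : (F ≃+* F) → F, ∀ x : F, f x = ∑ σ, c σ * σ x := by
  letI := ZMod.algebra F 2
  let v : (F ≃+* F) → (F →ₗ[ZMod 2] F) := fun σ => AddMonoidHom.toZModLinearMap 2 (σ : F →+* F).toAddMonoidHom
  let coe : (F →ₗ[ZMod 2] F) →ₗ[F] (F → F) :=
    { toFun := fun g => (g : F → F), map_add' := fun _ _ => rfl, map_smul' := fun _ _ => rfl }
  have hv : LinearIndependent F v := by
    apply LinearIndependent.of_comp coe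
    exact aut_linearIndependent
  have hcard : Fintype.card (F ≃+* F) = finrank F (F →ₗ[ZMod 2] F) := by
    rw [finrank_linearMap, finrank_self, mul_one]
    exact card_aut
  have hspan := hv.span_eq_top_of_card_eq_finrank' hcard
  have hmem : AddMonoidHom.toZModLinearMap 2 f ∈ Submodule.span F (Set.range v) := by
    rw [hspan]; trivial
  obtain ⟨c, hc⟩ := (Submodule.mem_span_range_iff_exists_fun F).1 hmem
  refine ⟨c, fun x => ?_⟩
  have := DFunLike.congr_fun hc x
  simp only [LinearMap.sum_apply, LinearMap.smul_apply, smul_eq_mul] at this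
  exact this.symm

/-- every biadditive map is a combination of `σ x * τ y` -/
theorem biadd_repr [Fintype F] [CharP F 2] (B : F →+ F →+ F) :
    ∃ c : (F ≃+* F) → (F ≃+* F) → F, ∀ x y : F, B x y = ∑ σ, ∑ τ, c σ τ * (σ x * τ y) := by
  choose b hb using fun x => add_repr (B x)
  -- `b x τ` is additive in `x`
  have hadd : ∀ τ x x', b (x + x') τ = b x τ + b x' τ := by
    intro τ x x'
    have h1 : ∀ y : F, ∑ τ, (b (x + x') τ - b x τ - b x' τ) * τ y = 0 := by
      intro y
      simp only [sub_mul, Finset.sum_sub_distrib]
      rw [← hb, ← hb, ← hb, map_add]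
      simp
    have := aut_indep _ h1 τ
    linear_combination this
  have hzero : ∀ τ, b 0 τ = 0 := by
    intro τ
    have := hadd τ 0 0
    rw [add_zero] at this
    exact left_eq_add.1 this
  let bh : (F ≃+* F) → (F →+ F) := fun τ =>
    { toFun := fun x => b x τ, map_zero' := hzero τ, map_add' := hadd τ }
  choose d hd using fun τ => add_repr (bh τ)
  refine ⟨fun σ τ => d τ σ, fun x y => ?_⟩
  rw [hb x y, Finset.sum_comm]
  apply Finset.sum_congr rfl
  intro τ _
  have : b x τ = ∑ σ, d τ σ * σ x := hd τ x
  rw [this, Finset.sum_mul]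
  apply Finset.sum_congr rfl
  intro σ _
  ring

end Cfsg.Agent.Lib.Helper63.FFAdd
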