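import Mathlib
import Cfsg.Prelude.Def_Transfer

/-!
Groups `P` with a central subgroup `Z` of prime order containing all commutators
(e.g. extraspecial groups): the commutator homomorphisms, index of centralizers and
`|H : Z(H)|` is an even power of `p` for every subgroup `H`.
-/

set_option autoImplicit false

namespace Cfsg.Agent.Lib.Helper63

variable {P : Type*} [Group P]

/-- the hypothesis: `Z` is central and contains all commutators -/
structure CentralComm (Z : Subgroup P) : Prop where
  central : Z ≤ Subgroup.center P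
  comm : ∀ a b : P, a * b * a⁻¹ * b⁻¹ ∈ Z

/-- `g ↦ [g, y]` as a homomorphism `P →* Z`. -/
def commHom {Z : Subgroup P} (hZ : CentralComm Z) (y : P) : P →* Z where
  toFun g := ⟨g * y * g⁻¹ * y⁻¹, hZ.comm g y⟩
  map_one' := by
    apply Subtype.ext
    simp
  map_mul' := by
    intro g h
    apply Subtype.ext
    have hc : h * y * h⁻¹ * y⁻¹ ∈ Subgroup.center P := hZ.central (hZ.comm h y)
    have h1 := Subgroup.mem_center_iff.mp hc g
    show g * h * y * (g * h)⁻¹ * y⁻¹ = (g * y * g⁻¹ * y⁻¹) * (h * y * h⁻¹ * y⁻¹)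
    have h2 := Subgroup.mem_center_iff.mp hc (g * y * g⁻¹ * y⁻¹)
    rw [h2]
    calc g * h * y * (g * h)⁻¹ * y⁻¹ = (g * (h * y * h⁻¹ * y⁻¹)) * y * g⁻¹ * y⁻¹ := by group
      _ = ((h * y * h⁻¹ * y⁻¹) * g) * y * g⁻¹ * y⁻¹ := by rw [h1]
      _ = (h * y * h⁻¹ * y⁻¹) * (g * y * g⁻¹ * y⁻¹) := by group

theorem commHom_apply_coe {Z : Subgroup P} (hZ : CentralComm Z) (y g : P) :
    ((commHom hZ y g : Z) : P) = g * y * g⁻¹ * y⁻¹ := rfl

theorem commHom_eq_one_iff {Z : Subgroup P} (hZ : CentralComm Z) (y g : P) :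
    commHom hZ y g = 1 ↔ g * y = y * g := by
  rw [Subtype.ext_iff, commHom_apply_coe]
  constructor
  · intro h
    have h1 : g * y * g⁻¹ = y := mul_inv_eq_one.mp h
    exact mul_inv_eq_iff_eq_mul.mp h1
  · intro h
    rw [h]; simp

theorem commHom_ker {Z : Subgroup P} (hZ : CentralComm Z) (y : P) :
    (commHom hZ y).ker = Subgroup.centralizer {y} := by
  ext g
  rw [MonoidHom.mem_ker, commHom_eq_one_iff, Subgroup.mem_centralizer_singleton_iff]

theorem commHom_self {Z : Subgroup P} (hZ : CentralComm Z) (y : P) : commHom hZ y y = 1 :=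
  (commHom_eq_one_iff hZ y y).mpr rfl

theorem commHom_swap {Z : Subgroup P} (hZ : CentralComm Z) (x y : P) :
    commHom hZ x y = (commHom hZ y x)⁻¹ := by
  apply Subtype.ext
  rw [Subgroup.coe_inv, commHom_apply_coe, commHom_apply_coe]
  group

/-- If `y` does not centralize `H` then `C_H(y)` has index `p` in `H`. -/
theorem card_eq_prime_mul_card_centralizer [Finite P] {p : ℕ} [Fact p.Prime] {Z : Subgroup P}
    (hZ : CentralComm Z) (hcard : Nat.card Z = p) (H : Subgroup P) (y : P)
    (hy : ∃ g ∈ H, g * y ≠ y * g) : Nat.card H = p * Nat.card ↥(H ⊓ Subgroup.centralizer {y}) := by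
  obtain ⟨g, hg, hgy⟩ := hy
  have h1 : (Subgroup.centralizer {y}).relIndex H = Nat.card (H.map (commHom hZ y)) := by
    rw [← commHom_ker hZ y, Subgroup.relIndex_ker]
  have h2 : H.map (commHom hZ y) = ⊤ := by
    have : Fact (Nat.card Z).Prime := ⟨by rw [hcard]; exact Fact.out⟩
    rcases Subgroup.eq_bot_or_eq_top_of_prime_card (H.map (commHom hZ y)) with h | h
    · exfalso
      have : commHom hZ y g ∈ H.map (commHom hZ y) := ⟨g, hg, rfl⟩
      rw [h, Subgroup.mem_bot, commHom_eq_one_iff] at this
      exact hgy this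
    · exact h
  rw [h2, Subgroup.card_top, hcard] at h1
  have h3 := Subgroup.relIndex_mul_relIndex ⊥ (H ⊓ Subgroup.centralizer {y}) H bot_le inf_le_left
  rw [Subgroup.relIndex_bot_left, Subgroup.relIndex_bot_left, Subgroup.inf_relIndex_left, h1] at h3
  rw [← h3, mul_comm]

/-- `|H : Z(H)|` is an even power of `p`, for every subgroup `H`. -/
theorem card_eq_pow_mul_card_center [Finite P] {p : ℕ} [Fact p.Prime] {Z : Subgroup P}
    (hZ : CentralComm Z) (hcard : Nat.card Z = p) (H : Subgroup P) :
    ∃ n : ℕ, Nat.card H = p ^ (2 * n) * Nat.card ↥(H ⊓ Subgroup.centralizer (H : Set P)) := by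
  have hp : p.Prime := Fact.out
  induction' hk : Nat.card H using Nat.strong_induction_on with k ih generalizing H
  by_cases hab : ∀ x ∈ H, ∀ y ∈ H, x * y = y * x
  · refine ⟨0, ?_⟩
    have : H ⊓ Subgroup.centralizer (H : Set P) = H := by
      apply inf_eq_left.mpr
      intro x hx
      rw [Subgroup.mem_centralizer_iff]
      intro y hy
      exact hab y hy x hx
    rw [this, hk]; simp
  · push Not at hab
    obtain ⟨x, hx, y, hy, hxy⟩ := hab
    set H1 := H ⊓ Subgroup.centralizer {x} with hH1
    set C := H1 ⊓ Subgroup.centralizer {y} with hC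
    have c1 : Nat.card H = p * Nat.card H1 :=
      card_eq_prime_mul_card_centralizer hZ hcard H x ⟨y, hy, fun h => hxy h.symm⟩
    have hxH1 : x ∈ H1 := Subgroup.mem_inf.mpr ⟨hx, Subgroup.mem_centralizer_singleton_iff.mpr rfl⟩
    have c2 : Nat.card H1 = p * Nat.card C :=
      card_eq_prime_mul_card_centralizer hZ hcard H1 y ⟨x, hxH1, hxy⟩
    have hCpos : 0 < Nat.card C := Nat.card_pos
    have hlt : Nat.card C < k := by
      rw [← hk, c1, c2]
      have : 2 ≤ p := hp.two_le
      nlinarith
    obtain ⟨n, hn⟩ := ih _ hlt C rfl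
    have hCH : C ≤ H := inf_le_left.trans inf_le_left
    have hmemC : ∀ g : P, g ∈ C ↔ g ∈ H ∧ g * x = x * g ∧ g * y = y * g := by
      intro g
      simp only [hC, hH1, Subgroup.mem_inf, Subgroup.mem_centralizer_singleton_iff]
      constructor
      · rintro ⟨⟨h1, h2⟩, h3⟩; exact ⟨h1, h2, h3⟩
      · rintro ⟨h1, h2, h3⟩; exact ⟨⟨h1, h2⟩, h3⟩
    have hcenter : C ⊓ Subgroup.centralizer (C : Set P) = H ⊓ Subgroup.centralizer (H : Set P) := by
      apply le_antisymm
      · intro c hc
        obtain ⟨hcC, hcc⟩ := Subgroup.mem_inf.mp hc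
        refine Subgroup.mem_inf.mpr ⟨hCH hcC, ?_⟩
        rw [Subgroup.mem_centralizer_iff]
        intro g hg
        -- decompose `g`
        set ζ := commHom hZ y x with hζ
        have hζ1 : ζ ≠ 1 := by
          intro h
          exact hxy ((commHom_eq_one_iff hZ y x).mp h)
        have htop : Subgroup.zpowers ζ = ⊤ := zpowers_eq_top_of_prime_card hcard hζ1
        obtain ⟨a, ha⟩ : commHom hZ x g ∈ Subgroup.zpowers ζ := htop ▸ Subgroup.mem_top _
        obtain ⟨b, hb⟩ : commHom hZ y g ∈ Subgroup.zpowers ζ := htop ▸ Subgroup.mem_top _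
        have ha' : ζ ^ a = commHom hZ x g := ha
        have hb' : ζ ^ b = commHom hZ y g := hb
        set h := g * x ^ (-b) * y ^ a with hh
        have hhC : h ∈ C := by
          rw [hmemC]
          refine ⟨H.mul_mem (H.mul_mem hg (H.zpow_mem hx _)) (H.zpow_mem hy _), ?_, ?_⟩
          · rw [← commHom_eq_one_iff hZ x h, hh, map_mul, map_mul, map_zpow, map_zpow, commHom_self,
              commHom_swap hZ x y, ← hζ, ← ha']
            simp
          · rw [← commHom_eq_one_iff hZ y h, hh, map_mul, map_mul, map_zpow, map_zpow, commHom_self,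
              ← hζ, ← hb']
            simp
        have hcx : x ∈ Subgroup.centralizer {c} := by
          rw [Subgroup.mem_centralizer_singleton_iff]
          exact ((hmemC c).mp hcC).2.1.symm
        have hcy : y ∈ Subgroup.centralizer {c} := by
          rw [Subgroup.mem_centralizer_singleton_iff]
          exact ((hmemC c).mp hcC).2.2.symm
        have hch : h ∈ Subgroup.centralizer {c} := by
          rw [Subgroup.mem_centralizer_singleton_iff]
          exact ((Subgroup.mem_centralizer_iff.mp hcc) h hhC)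
        have hg' : g = h * (y ^ a)⁻¹ * (x ^ (-b))⁻¹ := by rw [hh]; group
        have hcg : g ∈ Subgroup.centralizer {c} := by
          rw [hg']
          exact Subgroup.mul_mem _ (Subgroup.mul_mem _ hch (Subgroup.inv_mem _ (Subgroup.zpow_mem _ hcy _)))
            (Subgroup.inv_mem _ (Subgroup.zpow_mem _ hcx _))
        rw [Subgroup.mem_centralizer_singleton_iff] at hcg
        exact hcg
      · intro c hc
        obtain ⟨hcH, hcc⟩ := Subgroup.mem_inf.mp hc
        have hcc' := Subgroup.mem_centralizer_iff.mp hcc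
        refine Subgroup.mem_inf.mpr ⟨(hmemC c).mpr ⟨hcH, (hcc' x hx).symm, (hcc' y hy).symm⟩, ?_⟩
        rw [Subgroup.mem_centralizer_iff]
        intro g hg
        exact hcc' g (hCH hg)
    refine ⟨n + 1, ?_⟩
    rw [← hk, c1, c2, hn, hcenter]
    ring

/-- an extraspecial group satisfies `CentralComm (center P)` -/
theorem centralComm_of_isExtraspecial {p : ℕ} (h : Cfsg.IsExtraspecial p P) :
    CentralComm (Subgroup.center P) where
  central := le_rfl
  comm := by
    intro a b
    rw [← h.1.2.2, commutator_def, ← commutatorElement_def]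
    exact Subgroup.commutator_mem_commutator (Subgroup.mem_top a) (Subgroup.mem_top b)

/-- The order of an extraspecial group is `p ^ (2 n + 1)`, `n ≥ 1`. -/
theorem card_of_isExtraspecial [Finite P] {p : ℕ} [Fact p.Prime] (h : Cfsg.IsExtraspecial p P) :
    ∃ n : ℕ, 1 ≤ n ∧ Nat.card P = p ^ (2 * n + 1) := by
  have hp : p.Prime := Fact.out
  obtain ⟨n, hn⟩ := card_eq_pow_mul_card_center (centralComm_of_isExtraspecial h) h.2 ⊤
  have h1 : (⊤ : Subgroup P) ⊓ Subgroup.centralizer ((⊤ : Subgroup P) : Set P) = Subgroup.center P := by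
    rw [top_inf_eq, Subgroup.coe_top, Subgroup.centralizer_univ]
  rw [h1, h.2, Subgroup.card_top] at hn
  refine ⟨n, ?_, by rw [hn, pow_succ]⟩
  by_contra hn0
  have hn0' : n = 0 := by omega
  subst hn0'
  simp only [mul_zero, pow_zero, one_mul] at hn
  have htop : Subgroup.center P = ⊤ := by
    apply Subgroup.eq_top_of_card_eq
    rw [h.2, hn]
  have hbot : commutator P = ⊥ := by
    rw [commutator_def, Subgroup.commutator_eq_bot_iff_le_centralizer, Subgroup.coe_top,
      Subgroup.centralizer_univ, htop]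
  rw [h.1.2.2] at hbot
  have := h.2
  rw [hbot, Subgroup.card_bot] at this
  exact hp.one_lt.ne this

end Cfsg.Agent.Lib.Helper63
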